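import Mathlib.GroupTheory.FreeGroup.Basic
import Mathlib.GroupTheory.SemidirectProduct
import Mathlib.Algebra.Group.Action.End
import Mathlib.GroupTheory.GroupAction.Basic
import Mathlib.Tactic.Group

/-!
# Cocycles on a set with an action of a free group, and homomorphisms from stabilizers
-/

set_option autoImplicit false

universe u v w

namespace Groth.Agent.Pi1.H402.Coc

variable {n : ℕ} {T : Type u} [MulAction (FreeGroup (Fin n)) T] {K : Type w} [Group K]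

/-- The section of the semidirect product defined by a function on the edges. -/
def sec (ψ : T × Fin n → K) : FreeGroup (Fin n) →* (T → K) ⋊[mulAutArrow] FreeGroup (Fin n) :=
  FreeGroup.lift fun i => ⟨fun p => ψ (p, i), FreeGroup.of i⟩

lemma sec_right (ψ : T × Fin n → K) (γ : FreeGroup (Fin n)) : (sec ψ γ).right = γ := by
  have : SemidirectProduct.rightHom.comp (sec ψ) = MonoidHom.id _ := by
    ext i
    simp [sec]
  exact DFunLike.congr_fun this γ

/-- The cocycle defined by a function on the edges. -/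
def coc (ψ : T × Fin n → K) (γ : FreeGroup (Fin n)) (p : T) : K := (sec ψ γ).left p

lemma coc_mul (ψ : T × Fin n → K) (γ δ : FreeGroup (Fin n)) (p : T) :
    coc ψ (γ * δ) p = coc ψ γ p * coc ψ δ (γ⁻¹ • p) := by
  rw [coc, map_mul, SemidirectProduct.mul_left, sec_right]
  rfl

@[simp] lemma coc_one (ψ : T × Fin n → K) (p : T) : coc ψ 1 p = 1 := by
  rw [coc, map_one]; rfl

@[simp] lemma coc_of (ψ : T × Fin n → K) (i : Fin n) (p : T) : coc ψ (FreeGroup.of i) p = ψ (p, i) := by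
  rw [coc, sec, FreeGroup.lift_apply_of]

lemma coc_inv (ψ : T × Fin n → K) (γ : FreeGroup (Fin n)) (p : T) :
    coc ψ γ⁻¹ (γ⁻¹ • p) = (coc ψ γ p)⁻¹ := by
  have h := coc_mul ψ γ γ⁻¹ p
  rw [mul_inv_cancel, coc_one] at h
  exact (inv_eq_of_mul_eq_one_right h.symm).symm

/-- The homomorphism from the stabilizer defined by a function on the edges. -/
def homOf (ψ : T × Fin n → K) (t₀ : T) : MulAction.stabilizer (FreeGroup (Fin n)) t₀ →* K where
  toFun h := coc ψ h.1 t₀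
  map_one' := coc_one ψ t₀
  map_mul' a b := by
    have ha : (a.1)⁻¹ • t₀ = t₀ := (MulAction.stabilizer (FreeGroup (Fin n)) t₀).inv_mem a.2
    rw [Subgroup.coe_mul, coc_mul, ha]

lemma homOf_apply (ψ : T × Fin n → K) (t₀ : T) (h : MulAction.stabilizer (FreeGroup (Fin n)) t₀) :
    homOf ψ t₀ h = coc ψ h.1 t₀ := rfl

/-- The Schreier element of an edge. -/
def sch (t₀ : T) (τ : T → FreeGroup (Fin n)) (hτ : ∀ p, (τ p)⁻¹ • t₀ = p) (e : T × Fin n) :
    MulAction.stabilizer (FreeGroup (Fin n)) t₀ :=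
  ⟨τ e.1 * FreeGroup.of e.2 * (τ ((FreeGroup.of e.2)⁻¹ • e.1))⁻¹, by
    rw [MulAction.mem_stabilizer_iff, mul_smul, hτ, mul_smul, smul_inv_smul]
    exact (inv_smul_eq_iff.1 (hτ e.1)).symm⟩

lemma coe_sch (t₀ : T) (τ : T → FreeGroup (Fin n)) (hτ : ∀ p, (τ p)⁻¹ • t₀ = p) (e : T × Fin n) :
    (sch t₀ τ hτ e : FreeGroup (Fin n)) =
      τ e.1 * FreeGroup.of e.2 * (τ ((FreeGroup.of e.2)⁻¹ • e.1))⁻¹ := rfl

lemma homOf_sch (ψ : T × Fin n → K) (t₀ : T) (τ : T → FreeGroup (Fin n))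
    (hτ : ∀ p, (τ p)⁻¹ • t₀ = p) (hc : ∀ p, coc ψ (τ p) t₀ = 1) (e : T × Fin n) :
    homOf ψ t₀ (sch t₀ τ hτ e) = ψ e := by
  have h1 : ∀ q, coc ψ (τ q)⁻¹ q = 1 := by
    intro q
    have := coc_inv ψ (τ q) t₀
    rwa [hτ, hc, inv_one] at this
  rw [homOf_apply, coe_sch, mul_assoc, coc_mul, hc, hτ, coc_mul, coc_of, h1]
  simp

/-- The Schreier elements generate the stabilizer. -/
theorem closure_sch (t₀ : T) (τ : T → FreeGroup (Fin n)) (hτ : ∀ p, (τ p)⁻¹ • t₀ = p)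
    (hτ1 : τ t₀ = 1) : Subgroup.closure (Set.range (sch t₀ τ hτ)) = ⊤ := by
  set H' : Subgroup (FreeGroup (Fin n)) := (Subgroup.closure (Set.range (sch t₀ τ hτ))).map
    (MulAction.stabilizer (FreeGroup (Fin n)) t₀).subtype with hH'
  have key : ∀ γ : FreeGroup (Fin n), ∀ p, τ p * γ * (τ (γ⁻¹ • p))⁻¹ ∈ H' := by
    intro γ
    induction γ using FreeGroup.induction_on with
    | C1 => intro p; simp [H'.one_mem]
    | of i =>
      intro p
      exact ⟨sch t₀ τ hτ (p, i), Subgroup.subset_closure ⟨(p, i), rfl⟩, rfl⟩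
    | inv_of i ih =>
      intro p
      have h := H'.inv_mem (ih (FreeGroup.of i • p))
      rw [inv_smul_smul] at h
      simpa [mul_assoc] using h
    | mul x y ihx ihy =>
      intro p
      have h := H'.mul_mem (ihx p) (ihy (x⁻¹ • p))
      rw [smul_smul] at h
      simpa [mul_assoc] using h
  rw [eq_top_iff]
  rintro ⟨h, hh⟩ -
  have h1 := key h t₀
  have h2 : h⁻¹ • t₀ = t₀ := (MulAction.stabilizer (FreeGroup (Fin n)) t₀).inv_mem hh
  rw [h2, hτ1] at h1
  simp only [one_mul, inv_one, mul_one] at h1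
  obtain ⟨h', h3, h4⟩ := h1
  have : h' = ⟨h, hh⟩ := Subtype.ext h4
  exact this ▸ h3

/-- The universal property of the stabilizer. -/
theorem existsUnique_hom (t₀ : T) (τ : T → FreeGroup (Fin n)) (hτ : ∀ p, (τ p)⁻¹ • t₀ = p)
    (hτ1 : τ t₀ = 1) (ψ : T × Fin n → K) (hc : ∀ p, coc ψ (τ p) t₀ = 1) :
    ∃! θ : MulAction.stabilizer (FreeGroup (Fin n)) t₀ →* K, ∀ e, θ (sch t₀ τ hτ e) = ψ e := by
  refine ⟨homOf ψ t₀, homOf_sch ψ t₀ τ hτ hc, fun θ' hθ' => ?_⟩
  refine MonoidHom.eq_of_eqOn_dense (closure_sch t₀ τ hτ hτ1) ?_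
  rintro _ ⟨e, rfl⟩
  rw [hθ', homOf_sch ψ t₀ τ hτ hc]

end Groth.Agent.Pi1.H402.Coc
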