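import Groth.Agent.Pi1.H402.Graph
import Groth.Agent.Pi1.H402.Coc
import Mathlib.Dynamics.PeriodicPts.Defs
import Mathlib.GroupTheory.GroupAction.Period
import Mathlib.Data.Fin.Tuple.Basic
import Mathlib.Data.ZMod.Basic

/-!
# The boundary cycles of the ribbon graph
-/

set_option autoImplicit false
set_option linter.unusedSectionVars false

universe u v w

namespace Groth.Agent.Pi1.H402.Cyc

open Groth.Agent.Pi1.H402.Words Groth.Agent.Pi1.H402.Ribbon Groth.Agent.Pi1.H402.Graph
  Groth.Agent.Pi1.H402.Coc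

/-- A list with `f l_i = l_{i+1}` consists of iterates. -/
lemma chain_iterate {D : Type u} (f : D → D) (j : D) : ∀ (A : List D) (d : D),
    f d :: A.map f = A ++ [j] →
      d :: A = (List.range (A.length + 1)).map (fun k => f^[k] d) ∧ f^[A.length + 1] d = j := by
  intro A
  induction A with
  | nil =>
    intro d h
    simp only [List.map_nil, List.nil_append, List.cons.injEq, and_true] at h
    simp [h]
  | cons a A ih =>
    intro d h
    rw [List.map_cons, List.cons_append, List.cons.injEq] at h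
    obtain ⟨h1, h2⟩ := h
    obtain ⟨h3, h4⟩ := ih a h2
    refine ⟨?_, ?_⟩
    · rw [List.length_cons, List.range_succ_eq_map (n := A.length + 1), List.map_cons, List.map_map, h3]
      congr 1
      apply List.map_congr_left
      intro k _
      rw [← h1]
      rfl
    · rw [List.length_cons, Function.iterate_succ_apply, h1, h4]

lemma cycle_eq {D : Type u} (f : D → D) {d : D} {A : List D} (h : (d :: A).map f = (d :: A).rotate 1)
    (hn : (d :: A).Nodup) :
    d :: A = (List.range (Function.minimalPeriod f d)).map (fun k => f^[k] d) := by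
  simp only [List.map_cons, List.rotate_cons_succ, List.rotate_zero] at h
  obtain ⟨h1, h2⟩ := chain_iterate f d A d h
  have h3 : Function.IsPeriodicPt f (A.length + 1) d := h2
  have h4 := h3.minimalPeriod_dvd
  have h5 : 0 < Function.minimalPeriod f d := h3.minimalPeriod_pos (by omega)
  have h6 : Function.minimalPeriod f d = A.length + 1 := by
    by_contra hne
    have h7 : Function.minimalPeriod f d < A.length + 1 :=
      lt_of_le_of_ne (Nat.le_of_dvd (by omega) h4) hne
    rw [h1, List.nodup_map_iff_inj_on List.nodup_range] at hn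
    have h8 := hn 0 (by simp) (Function.minimalPeriod f d) (by simpa using h7) (by
      have := Function.iterate_minimalPeriod (f := f) (x := d)
      simp [this])
    omega
  rw [h6]
  exact h1

variable {m : ℕ} {T : Type u} [MulAction (FreeGroup (Fin (m + 1))) T]

/-- The boundary permutation. -/
def bt (d : (T × Fin (m + 1)) ⊕ (T × Fin (m + 1))) : (T × Fin (m + 1)) ⊕ (T × Fin (m + 1)) := nu d.swap

/-- The label of a dart. -/
def lab : (T × Fin (m + 1)) ⊕ (T × Fin (m + 1)) → FreeGroup (Fin (m + 1))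
  | .inl e => FreeGroup.of e.2
  | .inr e => (FreeGroup.of e.2)⁻¹

lemma vert_bt (d : (T × Fin (m + 1)) ⊕ (T × Fin (m + 1))) : vert (bt d) = (lab d)⁻¹ • vert d := by
  rw [bt, vert_nu]
  cases d with
  | inl e => simp [vert, lab]
  | inr e => simp [vert, lab]

/-- The label of a path. -/
def W (k : ℕ) (d : (T × Fin (m + 1)) ⊕ (T × Fin (m + 1))) : FreeGroup (Fin (m + 1)) :=
  ((List.range k).map fun j => lab (bt^[j] d)).prod

lemma W_zero (d : (T × Fin (m + 1)) ⊕ (T × Fin (m + 1))) : W 0 d = 1 := by simp [W]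

lemma W_succ (k : ℕ) (d : (T × Fin (m + 1)) ⊕ (T × Fin (m + 1))) :
    W (k + 1) d = W k d * lab (bt^[k] d) := by
  simp [W, List.range_succ]

lemma W_add (k l : ℕ) (d : (T × Fin (m + 1)) ⊕ (T × Fin (m + 1))) :
    W (k + l) d = W k d * W l (bt^[k] d) := by
  induction l with
  | zero => simp [W_zero]
  | succ l ih =>
    rw [← add_assoc, W_succ, ih, W_succ, mul_assoc, ← Function.iterate_add_apply, add_comm l k]

lemma vert_iterate (k : ℕ) (d : (T × Fin (m + 1)) ⊕ (T × Fin (m + 1))) :
    vert (bt^[k] d) = (W k d)⁻¹ • vert d := by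
  induction k with
  | zero => simp [W_zero]
  | succ k ih =>
    rw [Function.iterate_succ_apply', vert_bt, ih, W_succ, mul_inv_rev, mul_smul]

section Tel

variable (t₀ : T) (τ : T → FreeGroup (Fin (m + 1))) (hτ : ∀ p, (τ p)⁻¹ • t₀ = p)

lemma coe_dval_sch (d : (T × Fin (m + 1)) ⊕ (T × Fin (m + 1))) :
    (dval (sch t₀ τ hτ) d).1 = τ (vert d) * lab d * (τ (vert (bt d)))⁻¹ := by
  rw [vert_bt]
  cases d with
  | inl e => rfl
  | inr e =>
    simp only [dval_inr, Subgroup.coe_inv, coe_sch, lab, vert, mul_inv_rev, inv_inv, smul_inv_smul,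
      mul_assoc]

lemma coe_lval_sch (k : ℕ) (d : (T × Fin (m + 1)) ⊕ (T × Fin (m + 1))) :
    (lval (sch t₀ τ hτ) ((List.range k).map fun j => bt^[j] d)).1 =
      τ (vert d) * W k d * (τ (vert (bt^[k] d)))⁻¹ := by
  induction k with
  | zero => simp [W_zero]
  | succ k ih =>
    rw [List.range_succ, List.map_append, lval_append, Subgroup.coe_mul, ih, List.map_cons, List.map_nil,
      lval_cons, lval_nil, mul_one, coe_dval_sch, W_succ, Function.iterate_succ_apply']
    group

end Tel

/-- The loop at infinity. -/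
def X0 (m : ℕ) : FreeGroup (Fin (m + 1)) := ((List.ofFn fun i : Fin (m + 1) => FreeGroup.of i).prod)⁻¹

/-- The generators, with the loop at infinity as number `0`. -/
def X (m : ℕ) : Fin (m + 2) → FreeGroup (Fin (m + 1)) := Fin.cons (X0 m) fun i => FreeGroup.of i

@[simp] lemma X_zero (m : ℕ) : X m 0 = X0 m := rfl
@[simp] lemma X_succ (m : ℕ) (i : Fin (m + 1)) : X m i.succ = FreeGroup.of i := rfl

/-- The normal darts. -/
def nd (j : Fin (m + 2)) (p : T) : (T × Fin (m + 1)) ⊕ (T × Fin (m + 1)) :=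
  Fin.cons (α := fun _ => (T × Fin (m + 1)) ⊕ (T × Fin (m + 1))) (.inr (FreeGroup.of (Fin.last m) • p, Fin.last m))
    (fun i => .inl (p, i)) j

@[simp] lemma nd_zero (p : T) : nd (m := m) 0 p = .inr (FreeGroup.of (Fin.last m) • p, Fin.last m) := rfl
@[simp] lemma nd_succ (i : Fin (m + 1)) (p : T) : nd (m := m) i.succ p = .inl (p, i) := rfl

/-- The number of steps in one turn. -/
def st (m : ℕ) (j : Fin (m + 2)) : ℕ := Fin.cons (α := fun _ => ℕ) (m + 1) (fun _ => 1) j

@[simp] lemma st_zero (m : ℕ) : st m 0 = m + 1 := rfl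
@[simp] lemma st_succ (m : ℕ) (i : Fin (m + 1)) : st m i.succ = 1 := rfl

lemma st_pos (j : Fin (m + 2)) : 0 < st m j := by
  cases j using Fin.cases with
  | zero => simp
  | succ i => simp

@[simp] lemma vert_nd (j : Fin (m + 2)) (p : T) : vert (nd (m := m) j p) = p := by
  cases j using Fin.cases with
  | zero => simp [vert]
  | succ i => simp [vert]

lemma bt_inl (e : T × Fin (m + 1)) : bt (.inl e) = .inl ((FreeGroup.of e.2)⁻¹ • e.1, e.2) := rfl

lemma bt_inr (e : T × Fin (m + 1)) : bt (.inr e) = .inr (FreeGroup.of (e.2 - 1) • e.1, e.2 - 1) := rfl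

lemma iterate_inl (k : ℕ) (e : T × Fin (m + 1)) : ∃ q : T, bt^[k] (.inl e) = .inl (q, e.2) := by
  induction k with
  | zero => exact ⟨e.1, rfl⟩
  | succ k ih =>
    obtain ⟨q, hq⟩ := ih
    rw [Function.iterate_succ_apply', hq, bt_inl]
    exact ⟨_, rfl⟩

section Idx

open scoped Fin.CommRing

lemma iterate_inr (k : ℕ) (e : T × Fin (m + 1)) : ∃ q : T, bt^[k] (.inr e) = .inr (q, e.2 - (k : Fin (m + 1))) := by
  induction k with
  | zero => exact ⟨e.1, by simp⟩
  | succ k ih =>
    obtain ⟨q, hq⟩ := ih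
    rw [Function.iterate_succ_apply', hq, bt_inr]
    refine ⟨_, congrArg Sum.inr (Prod.ext rfl ?_)⟩
    simp only
    push_cast
    ring

lemma iterate_nd_eq {k : ℕ} {j j' : Fin (m + 2)} {p p' : T} (h : bt^[k] (nd j p) = nd j' p') :
    j' = j ∧ st m j ∣ k := by
  cases j using Fin.cases with
  | zero =>
    rw [nd_zero] at h
    obtain ⟨q, hq⟩ := iterate_inr k ((FreeGroup.of (Fin.last m) • p, Fin.last m) : T × Fin (m + 1))
    rw [hq] at h
    cases j' using Fin.cases with
    | zero =>
      refine ⟨rfl, ?_⟩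
      rw [nd_zero] at h
      simp only [Sum.inr.injEq, Prod.mk.injEq, sub_eq_self] at h
      rw [st_zero]
      exact (Fin.natCast_eq_zero (n := m + 1)).1 h.2
    | succ i => simp at h
  | succ i =>
    rw [nd_succ] at h
    obtain ⟨q, hq⟩ := iterate_inl k ((p, i) : T × Fin (m + 1))
    rw [hq] at h
    cases j' using Fin.cases with
    | zero => simp at h
    | succ i' =>
      simp only [nd_succ, Sum.inl.injEq, Prod.mk.injEq] at h
      exact ⟨by rw [h.2], by simp⟩

lemma iterate_inr' (k : ℕ) (e : T × Fin (m + 1)) : ∃ q : T, bt^[k] (.inr e) = .inr (q, e.2 - Fin.ofNat (m + 1) k) :=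
  iterate_inr k e

end Idx

lemma W_st (j : Fin (m + 2)) (p : T) : W (st m j) (nd j p) = X m j := by
  cases j using Fin.cases with
  | zero =>
    rw [st_zero, X_zero, X0, List.prod_inv_reverse, W]
    congr 1
    apply List.ext_getElem
    · simp
    · intro k h1 h2
      simp only [List.length_map, List.length_range] at h1
      obtain ⟨q, hq⟩ := iterate_inr' k ((FreeGroup.of (Fin.last m) • p, Fin.last m) : T × Fin (m + 1))
      simp only [List.getElem_map, List.getElem_range, nd_zero, hq, lab, List.getElem_reverse,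
        List.getElem_ofFn, List.length_map, List.length_ofFn]
      congr 2
      ext
      rw [Fin.val_sub, Fin.val_last, Fin.val_ofNat, Nat.mod_eq_of_lt h1]
      simp only
      rw [show m + 1 - k + m = (m - k) + (m + 1) by omega, Nat.add_mod_right, Nat.mod_eq_of_lt (by omega)]
      omega
  | succ i =>
    simp [W, lab]

lemma iterate_st (j : Fin (m + 2)) (p : T) : bt^[st m j] (nd j p) = nd j ((X m j)⁻¹ • p) := by
  have h1 := vert_iterate (st m j) (nd j p)
  rw [W_st, vert_nd] at h1
  rw [← h1]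
  cases j using Fin.cases with
  | zero =>
    obtain ⟨q, hq⟩ := iterate_inr' (m + 1) ((FreeGroup.of (Fin.last m) • p, Fin.last m) : T × Fin (m + 1))
    rw [st_zero, nd_zero, hq]
    have : Fin.ofNat (m + 1) (m + 1) = 0 := by ext; simp
    rw [this, sub_zero]
    simp [vert]
  | succ i =>
    simp [vert, bt_inl]

lemma iterate_st_mul (j : Fin (m + 2)) (k : ℕ) (p : T) :
    bt^[st m j * k] (nd j p) = nd j ((X m j ^ k)⁻¹ • p) ∧ W (st m j * k) (nd j p) = X m j ^ k := by
  induction k with
  | zero => simp [W_zero]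
  | succ k ih =>
    obtain ⟨h1, h2⟩ := ih
    refine ⟨?_, ?_⟩
    · rw [mul_add, mul_one, add_comm (st m j * k), Function.iterate_add_apply, h1, iterate_st,
        smul_smul, pow_succ, mul_inv_rev]
    · rw [mul_add, mul_one, W_add, h2, h1, W_st, pow_succ]

lemma nd_injective (j : Fin (m + 2)) : Function.Injective (nd (m := m) (T := T) j) := by
  intro p p' h
  have := congrArg vert h
  simpa using this

lemma minimalPeriod_nd (j : Fin (m + 2)) (p : T) :
    Function.minimalPeriod bt (nd j p) = st m j * MulAction.period (X m j) p := by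
  have hiff : ∀ n, Function.IsPeriodicPt bt (st m j * n) (nd j p) ↔ X m j ^ n • p = p := by
    intro n
    rw [Function.IsPeriodicPt, Function.IsFixedPt, (iterate_st_mul j n p).1, (nd_injective j).eq_iff,
      inv_smul_eq_iff, eq_comm]
  obtain ⟨c, hc⟩ := (iterate_nd_eq (k := Function.minimalPeriod bt (nd j p)) (j := j) (j' := j)
    (p := p) (p' := p) Function.iterate_minimalPeriod).2
  rw [hc]
  congr 1
  apply Nat.dvd_antisymm
  · have h1 : X m j ^ (MulAction.period (X m j) p) • p = p := MulAction.pow_period_smul _ _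
    rw [← hiff] at h1
    have h2 := h1.minimalPeriod_dvd
    rw [hc] at h2
    exact Nat.dvd_of_mul_dvd_mul_left (st_pos j) h2
  · rw [← MulAction.pow_smul_eq_iff_period_dvd, ← hiff, ← hc]
    exact Function.isPeriodicPt_minimalPeriod _ _

/-- A boundary cycle is closed under the boundary permutation. -/
lemma iterate_mem {l : List ((T × Fin (m + 1)) ⊕ (T × Fin (m + 1)))} (h : l.map bt = l.rotate 1)
    {d : (T × Fin (m + 1)) ⊕ (T × Fin (m + 1))} (hd : d ∈ l) (k : ℕ) : bt^[k] d ∈ l := by
  induction k with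
  | zero => exact hd
  | succ k ih =>
    rw [Function.iterate_succ_apply']
    have : bt (bt^[k] d) ∈ l.map bt := List.mem_map_of_mem ih
    rw [h, List.mem_rotate] at this
    exact this

lemma exists_nd_mem {l : List ((T × Fin (m + 1)) ⊕ (T × Fin (m + 1)))} (h : l.map bt = l.rotate 1)
    (hl : l ≠ []) : ∃ j p, nd j p ∈ l := by
  obtain ⟨d, hd⟩ := List.exists_mem_of_ne_nil l hl
  cases d with
  | inl e => exact ⟨e.2.succ, e.1, hd⟩
  | inr e =>
    have h1 := iterate_mem h hd (e.2.val + 1)
    obtain ⟨q, hq⟩ := iterate_inr' (e.2.val + 1) e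
    rw [hq] at h1
    refine ⟨0, (FreeGroup.of (Fin.last m))⁻¹ • q, ?_⟩
    rw [nd_zero, smul_inv_smul]
    convert h1 using 3
    ext
    rw [Fin.val_sub, Fin.val_last, Fin.val_ofNat]
    have h2 := e.2.isLt
    by_cases h3 : e.2.val = m
    · rw [h3]; simp
    · rw [Nat.mod_eq_of_lt (by omega : e.2.val + 1 < m + 1),
        show m + 1 - (e.2.val + 1) + e.2.val = m by omega, Nat.mod_eq_of_lt (by omega)]

/-- rotate so that the given element is in front -/
lemma exists_rotate {D : Type v} {l : List D} {d : D} (hd : d ∈ l) :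
    ∃ P Q : List D, l = P ++ d :: Q := List.append_of_mem hd

/-- A boundary cycle, started at one of its normal darts. -/
lemma cycle_nd {l P Q : List ((T × Fin (m + 1)) ⊕ (T × Fin (m + 1)))} (h : l.map bt = l.rotate 1)
    (hn : l.Nodup) {j : Fin (m + 2)} {p : T} (hl : l = P ++ nd j p :: Q) :
    nd j p :: (Q ++ P) = (List.range (st m j * MulAction.period (X m j) p)).map (fun k => bt^[k] (nd j p)) := by
  have h1 : nd j p :: (Q ++ P) = l.rotate P.length := by rw [hl]; simp
  rw [← minimalPeriod_nd]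
  apply cycle_eq
  · rw [h1, List.map_rotate, h, List.rotate_rotate, List.rotate_rotate, add_comm 1 P.length]
  · rw [h1, List.nodup_rotate]
    exact hn

lemma mem_cycle {l : List ((T × Fin (m + 1)) ⊕ (T × Fin (m + 1)))} (h : l.map bt = l.rotate 1)
    (hn : l.Nodup) {j : Fin (m + 2)} {p : T} (hd : nd j p ∈ l) (j' : Fin (m + 2)) (p' : T) :
    nd j' p' ∈ l ↔ j' = j ∧ ∃ n : ℕ, (X m j ^ n)⁻¹ • p = p' := by
  constructor
  · intro h'
    obtain ⟨P, Q, hl⟩ := List.append_of_mem hd
    have h1 := cycle_nd h hn hl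
    have h2 : nd j' p' ∈ nd j p :: (Q ++ P) := by
      rw [hl] at h'
      simp only [List.mem_append, List.mem_cons] at h' ⊢
      tauto
    rw [h1, List.mem_map] at h2
    obtain ⟨k, -, hk⟩ := h2
    obtain ⟨h3, c, rfl⟩ := iterate_nd_eq hk
    refine ⟨h3, c, ?_⟩
    rw [(iterate_st_mul j c p).1, h3] at hk
    exact nd_injective j hk
  · rintro ⟨rfl, n, rfl⟩
    rw [← (iterate_st_mul _ n p).1]
    exact iterate_mem h hd _

/-- The value of a boundary cycle. -/
theorem coe_lval_cycle (t₀ : T) (τ : T → FreeGroup (Fin (m + 1))) (hτ : ∀ p, (τ p)⁻¹ • t₀ = p)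
    {l P Q : List ((T × Fin (m + 1)) ⊕ (T × Fin (m + 1)))} (h : l.map bt = l.rotate 1)
    (hn : l.Nodup) {j : Fin (m + 2)} {p : T} (hl : l = P ++ nd j p :: Q) :
    (lval (sch t₀ τ hτ) l).1 =
      ((lval (sch t₀ τ hτ) P).1 * τ p) * X m j ^ (MulAction.period (X m j) p) *
        ((lval (sch t₀ τ hτ) P).1 * τ p)⁻¹ := by
  have h1 : (lval (sch t₀ τ hτ) (nd j p :: (Q ++ P))).1 =
      τ p * X m j ^ (MulAction.period (X m j) p) * (τ p)⁻¹ := by
    rw [cycle_nd h hn hl, coe_lval_sch, (iterate_st_mul _ _ _).2, (iterate_st_mul _ _ _).1, vert_nd,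
      vert_nd, inv_smul_eq_iff.2 (MulAction.pow_period_smul _ _).symm]
  have h2 : lval (sch t₀ τ hτ) l = lval (sch t₀ τ hτ) P * lval (sch t₀ τ hτ) (nd j p :: (Q ++ P)) *
      (lval (sch t₀ τ hτ) P)⁻¹ := by
    rw [hl, ← List.cons_append, lval_append, lval_append]
    group
  rw [h2, Subgroup.coe_mul, Subgroup.coe_mul, h1, Subgroup.coe_inv]
  group

end Groth.Agent.Pi1.H402.Cyc
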