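import Groth.Agent.Pi1.H402.Ribbon
import Mathlib.GroupTheory.GroupAction.Basic
import Mathlib.Data.List.FinRange
import Mathlib.Data.Fin.Basic

/-!
# The ribbon graph of a set with `m + 1` permutations
-/

set_option autoImplicit false
set_option linter.unusedSectionVars false

universe u v w

namespace Groth.Agent.Pi1.H402.Graph

open Groth.Agent.Pi1.H402.Words Groth.Agent.Pi1.H402.Ribbon

lemma flat_chain {I : Type u} {D : Type v} (A B : I → D) (next : I → I) (j : I) :
    ∀ (l : List I) (i₀ : I), (i₀ :: l).map next = l ++ [j] →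
      A i₀ :: (i₀ :: l).flatMap (fun i => [B i, A (next i)]) =
        (i₀ :: l).flatMap (fun i => [A i, B i]) ++ [A j] := by
  intro l
  induction l with
  | nil =>
    intro i₀ h
    simp only [List.map_cons, List.map_nil, List.nil_append, List.cons.injEq, and_true] at h
    simp [h]
  | cons i₁ l ih =>
    intro i₀ h
    rw [List.map_cons, List.cons_append, List.cons.injEq] at h
    obtain ⟨h1, h2⟩ := h
    have h3 := ih i₁ h2
    have e1 : (i₀ :: i₁ :: l).flatMap (fun i => [B i, A (next i)]) =
        B i₀ :: A i₁ :: (i₁ :: l).flatMap (fun i => [B i, A (next i)]) := by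
      rw [List.flatMap_cons, h1]; rfl
    have e2 : (i₀ :: i₁ :: l).flatMap (fun i => [A i, B i]) =
        A i₀ :: B i₀ :: (i₁ :: l).flatMap (fun i => [A i, B i]) := by
      rw [List.flatMap_cons]; rfl
    rw [e1, e2, h3]
    rfl

variable {m : ℕ} {T : Type u} [MulAction (FreeGroup (Fin (m + 1))) T]

/-- The vertex of a dart. -/
def vert : (T × Fin (m + 1)) ⊕ (T × Fin (m + 1)) → T
  | .inl e => e.1
  | .inr e => (FreeGroup.of e.2)⁻¹ • e.1

/-- The rotation at a vertex. -/
def nu : (T × Fin (m + 1)) ⊕ (T × Fin (m + 1)) → (T × Fin (m + 1)) ⊕ (T × Fin (m + 1))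
  | .inl e => .inr (FreeGroup.of (e.2 - 1) • e.1, e.2 - 1)
  | .inr e => .inl ((FreeGroup.of e.2)⁻¹ • e.1, e.2)

/-- The darts at a vertex. -/
def ring (p : T) : List ((T × Fin (m + 1)) ⊕ (T × Fin (m + 1))) :=
  (List.finRange (m + 1)).reverse.flatMap fun i => [.inr (FreeGroup.of i • p, i), .inl (p, i)]

lemma vert_nu (d : (T × Fin (m + 1)) ⊕ (T × Fin (m + 1))) : vert (nu d) = vert d := by
  cases d with
  | inl e => simp [nu, vert]
  | inr e => simp [nu, vert]

lemma mem_ring (p : T) (d : (T × Fin (m + 1)) ⊕ (T × Fin (m + 1))) : d ∈ ring p ↔ vert d = p := by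
  simp only [ring, List.mem_flatMap, List.mem_reverse, List.mem_finRange, true_and, List.mem_cons,
    List.not_mem_nil, or_false]
  constructor
  · rintro ⟨i, rfl | rfl⟩ <;> simp [vert]
  · intro h
    subst h
    cases d with
    | inl e => exact ⟨e.2, Or.inr rfl⟩
    | inr e => exact ⟨e.2, Or.inl (by simp [vert])⟩

lemma nodup_ring (p : T) : (ring (m := m) p).Nodup := by
  rw [ring, List.nodup_flatMap]
  refine ⟨fun i _ => by simp, ?_⟩
  refine (List.nodup_reverse.2 (List.nodup_finRange _)).imp ?_
  intro i j hij
  simp only [Function.onFun, List.disjoint_cons_left, List.mem_cons, List.not_mem_nil, or_false,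
    Sum.inr.injEq, Prod.mk.injEq, reduceCtorEq, not_and, Sum.inl.injEq,
    true_and, List.disjoint_nil_left, and_true, false_or, or_false]
  exact ⟨fun _ => hij, hij⟩

lemma map_nu_ring (p : T) : (ring (m := m) p).map nu = (ring p).rotate 1 := by
  have h1 : (List.finRange (m + 1)).reverse =
      Fin.last m :: ((List.finRange m).map Fin.castSucc).reverse := by
    rw [List.finRange_succ_last]
    simp
  have h2 : (Fin.last m :: ((List.finRange m).map Fin.castSucc).reverse).map (fun i => i - 1) =
      ((List.finRange m).map Fin.castSucc).reverse ++ [Fin.last m] := by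
    have h0 : (List.finRange (m + 1)).map (fun i => i - 1) = Fin.last m :: (List.finRange m).map Fin.castSucc := by
      rw [List.finRange_succ, List.map_cons, List.map_map]
      congr 1
      · ext
        rw [Fin.val_last, Fin.val_sub, Fin.val_zero]
        cases m with
        | zero => simp
        | succ m =>
          rw [Fin.val_one, add_zero, Nat.add_sub_cancel, Nat.mod_eq_of_lt (by omega)]
      · apply List.map_congr_left
        intro i _
        simp only [Function.comp_apply]
        ext
        rw [Fin.val_sub_one_of_ne_zero (Fin.succ_ne_zero i)]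
        simp
    rw [← h1, List.map_reverse, h0, List.reverse_cons]
  have h3 := flat_chain (fun i => (.inr (FreeGroup.of i • p, i) : (T × Fin (m + 1)) ⊕ (T × Fin (m + 1))))
    (fun i => .inl (p, i)) (fun i => i - 1) (Fin.last m) _ _ h2
  have h4 : (ring (m := m) p).map nu = (Fin.last m :: ((List.finRange m).map Fin.castSucc).reverse).flatMap
      (fun i => [.inl (p, i), .inr (FreeGroup.of (i - 1) • p, i - 1)]) := by
    rw [ring, h1, List.map_flatMap]
    congr 1
    funext i
    simp [nu]
  rw [h4]
  have h5 : ring (m := m) p = (Fin.last m :: ((List.finRange m).map Fin.castSucc).reverse).flatMap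
      (fun i => [.inr (FreeGroup.of i • p, i), .inl (p, i)]) := by
    rw [ring, h1]
  rw [h5]
  rw [List.flatMap_cons (f := fun i => [Sum.inr (FreeGroup.of i • p, i), Sum.inl (p, i)])] at h3 ⊢
  simp only [List.cons_append, List.nil_append, List.cons.injEq, true_and, List.rotate_cons_succ,
    List.rotate_zero] at h3 ⊢
  exact h3

/-- The ribbon graph. -/
theorem isRibbon [MulAction.IsPretransitive (FreeGroup (Fin (m + 1))) T] (t₀ : T) :
    IsRibbon (nu (m := m) (T := T)) vert ring t₀ where
  mem := mem_ring
  nodup := nodup_ring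
  rot := map_nu_ring
  ne := by
    intro h
    have : (Sum.inl (t₀, 0) : (T × Fin (m + 1)) ⊕ (T × Fin (m + 1))) ∈ ring t₀ := by
      rw [mem_ring]; rfl
    rw [h] at this
    simp at this
  conn := by
    intro P h0 hP
    have key : ∀ γ : FreeGroup (Fin (m + 1)), ∀ p, P (γ • p) ↔ P p := by
      intro γ
      induction γ using FreeGroup.induction_on with
      | C1 => intro p; simp
      | of i =>
        intro p
        have := hP (FreeGroup.of i • p, i)
        simpa [vert] using this
      | inv_of i ih =>
        intro p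
        have := ih ((FreeGroup.of i)⁻¹ • p)
        rw [smul_inv_smul] at this
        exact this.symm
      | mul x y ihx ihy =>
        intro p
        rw [mul_smul, ihx, ihy]
    intro v
    obtain ⟨γ, rfl⟩ := MulAction.exists_smul_eq (FreeGroup (Fin (m + 1))) t₀ v
    exact (key γ t₀).2 h0

end Groth.Agent.Pi1.H402.Graph
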