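import Groth.Agent.Pi1.H402.Words
import Mathlib.Data.Fintype.Sum
import Mathlib.Data.Finset.Card
import Mathlib.Tactic.Linarith

/-!
# Ribbon graphs

A connected ribbon graph is built edge by edge from the disc at the base vertex.
-/

set_option autoImplicit false
set_option linter.unusedSectionVars false

universe u v w w'

namespace Groth.Agent.Pi1.H402.Ribbon

open Groth.Agent.Pi1.H402.Words

/-- The edge of a dart. -/
def edge {E : Type u} : E ⊕ E → E := Sum.elim id id

@[simp] lemma edge_inl {E : Type u} (e : E) : edge (Sum.inl e : E ⊕ E) = e := rfl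
@[simp] lemma edge_inr {E : Type u} (e : E) : edge (Sum.inr e : E ⊕ E) = e := rfl
@[simp] lemma edge_swap {E : Type u} (d : E ⊕ E) : edge d.swap = edge d := by cases d <;> rfl

lemma eq_or_eq_swap {E : Type u} {d d' : E ⊕ E} (h : edge d = edge d') : d = d' ∨ d = d'.swap := by
  cases d <;> cases d' <;> simp_all

variable {E : Type u} {V : Type v} [DecidableEq E] [DecidableEq V]

/-- The boundary permutation when the edges in `S` are present. -/
def bd (ν : E ⊕ E → E ⊕ E) (S : Finset E) (d : E ⊕ E) : E ⊕ E :=
  ν (if edge d ∈ S then d.swap else d)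

lemma bd_of_mem {ν : E ⊕ E → E ⊕ E} {S : Finset E} {d : E ⊕ E} (h : edge d ∈ S) :
    bd ν S d = ν d.swap := by simp [bd, h]

lemma bd_of_notMem {ν : E ⊕ E → E ⊕ E} {S : Finset E} {d : E ⊕ E} (h : edge d ∉ S) :
    bd ν S d = ν d := by simp [bd, h]

lemma bd_insert {ν : E ⊕ E → E ⊕ E} {S : Finset E} {e : E} {d : E ⊕ E} (h : edge d ≠ e) :
    bd ν (insert e S) d = bd ν S d := by simp [bd, h]

/-- A ribbon graph: at every vertex the darts are cyclically ordered by `ν`. -/
structure IsRibbon (ν : E ⊕ E → E ⊕ E) (vert : E ⊕ E → V) (ring : V → List (E ⊕ E)) (v₀ : V) : Prop where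
  mem : ∀ v d, d ∈ ring v ↔ vert d = v
  nodup : ∀ v, (ring v).Nodup
  rot : ∀ v, (ring v).map ν = (ring v).rotate 1
  ne : ring v₀ ≠ []
  conn : ∀ P : V → Prop, P v₀ → (∀ e, P (vert (.inl e)) ↔ P (vert (.inr e))) → ∀ v, P v

/-- The state of the construction: `S` is the set of edges present, `Vis` the set of visited vertices,
`Λ` the set of edges which are not tree edges. -/
structure State (ν : E ⊕ E → E ⊕ E) (vert : E ⊕ E → V) (v₀ : V) (S : Finset E) (Vis : Finset V)
    (Λ : Finset E) (g : ℕ) (comps : List (List (E ⊕ E))) : Prop where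
  reach : Reach.{u, w} (Λ : Set E) g comps
  sub : Λ ⊆ S
  base : v₀ ∈ Vis
  rot : ∀ l ∈ comps, l.map (bd ν S) = l.rotate 1
  ne : ∀ l ∈ comps, l ≠ []
  nodup : comps.flatten.Nodup
  mem : ∀ d, d ∈ comps.flatten ↔ vert d ∈ Vis
  endp : ∀ e ∈ S, vert (.inl e) ∈ Vis ∧ vert (.inr e) ∈ Vis
  count : Λ.card + 1 = 2 * g + comps.length
  tree : S.card + 1 = Λ.card + Vis.card
  pot : ∀ (Γ : Type w') [Group Γ] (x : E → Γ), ∃ τ : V → Γ, τ v₀ = 1 ∧
    ∀ e ∈ S, e ∉ Λ → τ (vert (.inr e)) = τ (vert (.inl e)) * x e
  tconn : ∀ P : V → Prop, P v₀ → (∀ e ∈ S, e ∉ Λ → (P (vert (.inl e)) ↔ P (vert (.inr e)))) →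
    ∀ v ∈ Vis, P v

variable {ν : E ⊕ E → E ⊕ E} {vert : E ⊕ E → V} {ring : V → List (E ⊕ E)} {v₀ : V}

lemma State.init (h : IsRibbon ν vert ring v₀) : State.{u, v, w, w'} ν vert v₀ ∅ {v₀} ∅ 0 [ring v₀] where
  reach := by simpa using Reach.disc (ring v₀)
  sub := by simp
  base := by simp
  rot := by
    intro l hl
    simp only [List.mem_singleton] at hl
    subst hl
    rw [← h.rot v₀]
    apply List.map_congr_left
    intro d _
    exact bd_of_notMem (by simp)
  ne := by
    intro l hl
    simp only [List.mem_singleton] at hl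
    subst hl
    exact h.ne
  nodup := by simpa using h.nodup v₀
  mem := by intro d; simpa using h.mem v₀ d
  endp := by simp
  count := by simp
  tree := by simp
  pot := by
    intro Γ _ x
    exact ⟨fun _ => 1, rfl, by simp⟩
  tconn := by
    intro P h0 _ v hv
    rw [Finset.mem_singleton] at hv
    exact hv ▸ h0

/-- The components may be permuted. -/
lemma State.perm {S : Finset E} {Vis : Finset V} {Λ : Finset E} {g : ℕ} {comps comps' : List (List (E ⊕ E))}
    (h : State.{u, v, w, w'} ν vert v₀ S Vis Λ g comps) (hp : comps.Perm comps') :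
    State.{u, v, w, w'} ν vert v₀ S Vis Λ g comps' where
  reach := h.reach.perm hp
  sub := h.sub
  base := h.base
  rot l hl := h.rot l (hp.symm.subset hl)
  ne l hl := h.ne l (hp.symm.subset hl)
  nodup := hp.flatten.nodup_iff.1 h.nodup
  mem d := by rw [← h.mem d]; exact hp.flatten.mem_iff.symm
  endp := h.endp
  count := by rw [h.count, hp.length_eq]
  tree := h.tree
  pot := h.pot
  tconn := h.tconn

/-- A component may be rotated. -/
lemma State.rotate {S : Finset E} {Vis : Finset V} {Λ : Finset E} {g : ℕ} {l l' : List (E ⊕ E)}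
    {comps : List (List (E ⊕ E))}
    (h : State.{u, v, w, w'} ν vert v₀ S Vis Λ g (l :: comps)) (hl : l ~r l') :
    State.{u, v, w, w'} ν vert v₀ S Vis Λ g (l' :: comps) where
  reach := h.reach.rotate hl
  sub := h.sub
  base := h.base
  rot m hm := by
    rw [List.mem_cons] at hm
    obtain rfl | hm := hm
    · obtain ⟨n, rfl⟩ := hl
      rw [List.map_rotate, h.rot l (by simp), List.rotate_rotate, List.rotate_rotate, add_comm]
    · exact h.rot m (by simp [hm])
  ne m hm := by
    rw [List.mem_cons] at hm
    obtain rfl | hm := hm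
    · intro h0
      subst h0
      exact h.ne l (by simp) (List.isRotated_nil_iff.1 hl)
    · exact h.ne m (by simp [hm])
  nodup := by
    have h1 := h.nodup
    rw [List.flatten_cons] at h1 ⊢
    exact (hl.perm.append_right _).nodup_iff.1 h1
  mem d := by
    rw [← h.mem d, List.flatten_cons, List.flatten_cons, List.mem_append, List.mem_append, hl.mem_iff]
  endp := h.endp
  count := by rw [h.count]; simp
  tree := h.tree
  pot := h.pot
  tconn := h.tconn

/-- Bring the component of a dart to the front, starting with this dart. -/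
lemma State.exists_head {S : Finset E} {Vis : Finset V} {Λ : Finset E} {g : ℕ}
    {comps : List (List (E ⊕ E))} (h : State.{u, v, w, w'} ν vert v₀ S Vis Λ g comps) {d : E ⊕ E}
    (hd : vert d ∈ Vis) : ∃ (A : List (E ⊕ E)) (comps' : List (List (E ⊕ E))),
      State.{u, v, w, w'} ν vert v₀ S Vis Λ g ((d :: A) :: comps') := by
  rw [← h.mem d, List.mem_flatten] at hd
  obtain ⟨l, hl, hdl⟩ := hd
  obtain ⟨X, Y, rfl⟩ := List.append_of_mem hl
  obtain ⟨P, Q, rfl⟩ := List.append_of_mem hdl
  have h1 := h.perm (List.perm_middle (a := P ++ d :: Q) (l₁ := X) (l₂ := Y))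
  exact ⟨Q ++ P, X ++ Y, h1.rotate (l' := d :: (Q ++ P)) ⟨P.length, by simp⟩⟩

/-- add an edge between two visited vertices -/
lemma State.cycleStep {S : Finset E} {Vis : Finset V} {Λ : Finset E} {g : ℕ}
    {comps : List (List (E ⊕ E))} (h : State.{u, v, w, w'} ν vert v₀ S Vis Λ g comps) {e : E} (he : e ∉ S)
    (h1 : vert (.inl e) ∈ Vis) (h2 : vert (.inr e) ∈ Vis) :
    ∃ (g' : ℕ) (comps' : List (List (E ⊕ E))),
      State.{u, v, w, w'} ν vert v₀ (insert e S) Vis (insert e Λ) g' comps' := by
  have heΛ : e ∉ Λ := fun h' => he (h.sub h')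
  obtain ⟨M, rest, h3⟩ := h.exists_head h1
  have hbl : bd ν S (.inl e) = ν (.inl e) := bd_of_notMem (by simpa using he)
  have hbr : bd ν S (.inr e) = ν (.inr e) := bd_of_notMem (by simpa using he)
  have hbl' : bd ν (insert e S) (.inl e) = ν (.inr e) := by rw [bd_of_mem (by simp)]; rfl
  have hbr' : bd ν (insert e S) (.inr e) = ν (.inl e) := by rw [bd_of_mem (by simp)]; rfl
  have hbm : ∀ l : List (E ⊕ E), .inl e ∉ l → .inr e ∉ l → l.map (bd ν (insert e S)) = l.map (bd ν S) := by
    intro l hl1 hl2
    apply List.map_congr_left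
    intro d hd
    refine bd_insert ?_
    rintro rfl
    cases d with
    | inl e' => exact hl1 hd
    | inr e' => exact hl2 hd
  have hmem : (.inr e : E ⊕ E) ∈ ((.inl e :: M) :: rest).flatten := (h3.mem _).2 h2
  have hnd := h3.nodup
  simp only [List.flatten_cons, List.cons_append, List.mem_cons, List.mem_append, reduceCtorEq, false_or]
    at hmem
  obtain hmem | hmem := hmem
  · obtain ⟨A, B, rfl⟩ := List.append_of_mem hmem
    simp only [List.flatten_cons, List.cons_append, List.append_assoc, List.nodup_cons, List.mem_append,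
      List.mem_cons, not_or, List.nodup_append] at hnd
    obtain ⟨⟨hlA, -, hlB, hlR⟩, hA, ⟨⟨hrB, hrR⟩, hB, hR, hBR⟩, hAB⟩ := hnd
    have hrA : (.inr e : E ⊕ E) ∉ A := fun h' => hAB _ h' _ (by simp) rfl
    have hrest : ∀ l ∈ rest, (.inl e : E ⊕ E) ∉ l ∧ (.inr e : E ⊕ E) ∉ l := fun l hl =>
      ⟨fun h' => hlR (List.mem_flatten.2 ⟨l, hl, h'⟩), fun h' => hrR (List.mem_flatten.2 ⟨l, hl, h'⟩)⟩
    have hrot := h3.rot _ (List.mem_cons_self)
    have hsplit : bd ν S (.inl e) :: A.map (bd ν S) = A ++ [.inr e] ∧
        bd ν S (.inr e) :: B.map (bd ν S) = B ++ [.inl e] := by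
      have : (bd ν S (.inl e) :: A.map (bd ν S)) ++ (bd ν S (.inr e) :: B.map (bd ν S)) =
          (A ++ [.inr e]) ++ (B ++ [.inl e]) := by
        simpa using hrot
      exact List.append_inj this (by simp)
    refine ⟨g, (.inr e :: A) :: (.inl e :: B) :: rest, ?_, ?_, h.base, ?_, ?_, ?_, ?_, ?_, ?_, ?_, ?_, ?_⟩
    · have := h3.reach.split (e := e) (by simpa using heΛ) ⟨hlA, hrA⟩ ⟨hlB, hrB⟩ hrest
      simpa using this
    · exact Finset.insert_subset_insert _ h.sub
    · intro l hl
      simp only [List.mem_cons] at hl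
      obtain rfl | rfl | hl := hl
      · rw [List.map_cons, hbm A hlA hrA, hbr', ← hbl, hsplit.1]
        simp
      · rw [List.map_cons, hbm B hlB hrB, hbl', ← hbr, hsplit.2]
        simp
      · rw [hbm l (hrest l hl).1 (hrest l hl).2]
        exact h3.rot l (by simp [hl])
    · intro l hl
      simp only [List.mem_cons] at hl
      obtain rfl | rfl | hl := hl
      · simp
      · simp
      · exact h3.ne l (by simp [hl])
    · refine List.Perm.nodup_iff ?_ |>.1 h3.nodup
      simp only [List.flatten_cons, List.cons_append, List.append_assoc]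
      exact (List.perm_middle (a := Sum.inr e) (l₁ := .inl e :: A)).trans
        ((List.perm_middle (a := Sum.inl e) (l₁ := A)).symm.cons _)
    · intro d
      rw [← h3.mem d]
      simp only [List.flatten_cons, List.mem_append, List.mem_cons]
      tauto
    · intro e' he'
      rw [Finset.mem_insert] at he'
      obtain rfl | he' := he'
      · exact ⟨h1, h2⟩
      · exact h.endp e' he'
    · have := h3.count
      rw [Finset.card_insert_of_notMem heΛ]
      simp only [List.length_cons] at this ⊢
      omega
    · have := h.tree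
      rw [Finset.card_insert_of_notMem heΛ, Finset.card_insert_of_notMem he]
      omega
    · intro Γ _ x
      obtain ⟨τ, ht1, ht2⟩ := h.pot Γ x
      refine ⟨τ, ht1, fun e' he1 he2 => ht2 e' ?_ ?_⟩
      · rw [Finset.mem_insert, not_or] at he2
        rw [Finset.mem_insert] at he1
        exact he1.resolve_left he2.1
      · rw [Finset.mem_insert, not_or] at he2
        exact he2.2
    · intro P hP0 hP v hv
      refine h.tconn P hP0 (fun e' he1 he2 => hP e' (Finset.mem_insert_of_mem he1) ?_) v hv
      rw [Finset.mem_insert, not_or]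
      refine ⟨?_, he2⟩
      rintro rfl
      exact he he1
  · rw [List.mem_flatten] at hmem
    obtain ⟨l, hl, hel⟩ := hmem
    obtain ⟨X, Y, rfl⟩ := List.append_of_mem hl
    obtain ⟨P, Q, rfl⟩ := List.append_of_mem hel
    have h4 : State.{u, v, w, w'} ν vert v₀ S Vis Λ g
        ((.inr e :: (Q ++ P)) :: (.inl e :: M) :: (X ++ Y)) := by
      have h5 := h3.perm (comps' := (P ++ Sum.inr e :: Q) :: (.inl e :: M) :: (X ++ Y))
        ((List.perm_middle (a := P ++ Sum.inr e :: Q) (l₁ := (.inl e :: M) :: X) (l₂ := Y)))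
      exact h5.rotate ⟨P.length, by simp⟩
    generalize Q ++ P = B at h4
    generalize X ++ Y = rest at h4
    clear hnd h3
    have hnd := h4.nodup
    simp only [List.flatten_cons, List.cons_append, List.nodup_cons, List.mem_append,
      List.mem_cons, not_or, List.nodup_append] at hnd
    obtain ⟨⟨hrB, -, hrM, hrR⟩, hB, ⟨⟨hlM, hlR⟩, hM, hR, hMR⟩, hBM⟩ := hnd
    have hlB : (.inl e : E ⊕ E) ∉ B := fun h' => hBM _ h' _ (by simp) rfl
    have hrest : ∀ l ∈ rest, (.inl e : E ⊕ E) ∉ l ∧ (.inr e : E ⊕ E) ∉ l := fun l hl =>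
      ⟨fun h' => hlR (List.mem_flatten.2 ⟨l, hl, h'⟩), fun h' => hrR (List.mem_flatten.2 ⟨l, hl, h'⟩)⟩
    have hrot1 := h4.rot (.inr e :: B) (by simp)
    have hrot2 := h4.rot (.inl e :: M) (by simp)
    simp only [List.map_cons, List.rotate_cons_succ, List.rotate_zero] at hrot1 hrot2
    refine ⟨g + 1, (.inl e :: (B ++ .inr e :: M)) :: rest, ?_, ?_, h.base, ?_, ?_, ?_, ?_, ?_, ?_, ?_, ?_, ?_⟩
    · have := h4.reach.merge (e := e) (by simpa using heΛ) ⟨hlM, hrM⟩ ⟨hlB, hrB⟩ hrest
      simpa using this
    · exact Finset.insert_subset_insert _ h.sub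
    · intro l hl
      simp only [List.mem_cons] at hl
      obtain rfl | hl := hl
      · rw [List.map_cons, List.map_append, List.map_cons, hbm B hlB hrB, hbm M hlM hrM, hbl', hbr',
          ← hbl, ← hbr, hrot2, ← List.cons_append, hrot1]
        simp
      · rw [hbm l (hrest l hl).1 (hrest l hl).2]
        exact h4.rot l (by simp [hl])
    · intro l hl
      simp only [List.mem_cons] at hl
      obtain rfl | hl := hl
      · simp
      · exact h4.ne l (by simp [hl])
    · refine List.Perm.nodup_iff ?_ |>.1 h4.nodup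
      simp only [List.flatten_cons, List.cons_append, List.append_assoc]
      exact ((List.perm_middle (a := Sum.inl e) (l₁ := B)).cons _).trans
        ((List.Perm.swap _ _ _).trans ((List.perm_middle (a := Sum.inr e) (l₁ := B)).symm.cons _))
    · intro d
      rw [← h4.mem d]
      simp only [List.flatten_cons, List.mem_append, List.mem_cons]
      tauto
    · intro e' he'
      rw [Finset.mem_insert] at he'
      obtain rfl | he' := he'
      · exact ⟨h1, h2⟩
      · exact h.endp e' he'
    · have := h4.count
      rw [Finset.card_insert_of_notMem heΛ]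
      simp only [List.length_cons] at this ⊢
      omega
    · have := h.tree
      rw [Finset.card_insert_of_notMem heΛ, Finset.card_insert_of_notMem he]
      omega
    · intro Γ _ x
      obtain ⟨τ, ht1, ht2⟩ := h.pot Γ x
      refine ⟨τ, ht1, fun e' he1 he2 => ht2 e' ?_ ?_⟩
      · rw [Finset.mem_insert, not_or] at he2
        rw [Finset.mem_insert] at he1
        exact he1.resolve_left he2.1
      · rw [Finset.mem_insert, not_or] at he2
        exact he2.2
    · intro P hP0 hP v hv
      refine h.tconn P hP0 (fun e' he1 he2 => hP e' (Finset.mem_insert_of_mem he1) ?_) v hv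
      rw [Finset.mem_insert, not_or]
      refine ⟨?_, he2⟩
      rintro rfl
      exact he he1

lemma lval_eq_one {K : Type w} [Group K] {Λ : Set E} {ψ : E → K} (hψ : Supp Λ ψ) {l : List (E ⊕ E)}
    (hl : ∀ d ∈ l, edge d ∉ Λ) : lval ψ l = 1 := by
  apply List.prod_eq_one
  intro x hx
  simp only [List.mem_map] at hx
  obtain ⟨d, hd, rfl⟩ := hx
  cases d with
  | inl e => exact hψ e (hl _ hd)
  | inr e => simp [hψ e (hl _ hd)]

/-- add an edge to an unvisited vertex -/
lemma State.treeStep {S : Finset E} {Vis : Finset V} {Λ : Finset E} {g : ℕ}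
    {comps : List (List (E ⊕ E))} (h : State.{u, v, w, w'} ν vert v₀ S Vis Λ g comps)
    (hR : IsRibbon ν vert ring v₀) {d : E ⊕ E}
    (h1 : vert d ∈ Vis) (h2 : vert d.swap ∉ Vis) :
    ∃ (comps' : List (List (E ⊕ E))),
      State.{u, v, w, w'} ν vert v₀ (insert (edge d) S) (insert (vert d.swap) Vis) Λ g comps' := by
  have hunp : ∀ b : E ⊕ E, edge b ∈ S → vert b ∈ Vis := by
    intro b hb
    cases b with
    | inl e => exact (h.endp e hb).1
    | inr e => exact (h.endp e hb).2
  have hdS : edge d ∉ S := fun h' => h2 (hunp _ (by simpa using h'))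
  have hdΛ : edge d ∉ Λ := fun h' => hdS (h.sub h')
  obtain ⟨A, rest, h3⟩ := h.exists_head h1
  obtain ⟨P, Q, hPQ⟩ := List.append_of_mem ((hR.mem _ d.swap).2 rfl)
  have hrot1 : ((d.swap :: (Q ++ P)).map ν) = (Q ++ P) ++ [d.swap] := by
    have h5 : (d.swap :: (Q ++ P)) = (ring (vert d.swap)).rotate P.length := by rw [hPQ]; simp
    have h6 : (Q ++ P) ++ [d.swap] = (d.swap :: (Q ++ P)).rotate 1 := by simp
    rw [h6, h5, List.map_rotate, hR.rot, List.rotate_rotate, List.rotate_rotate, add_comm]
  have hmemB : ∀ b, b ∈ d.swap :: (Q ++ P) ↔ vert b = vert d.swap := by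
    intro b
    rw [← hR.mem, hPQ]
    simp only [List.mem_cons, List.mem_append]
    tauto
  have hndB : (d.swap :: (Q ++ P)).Nodup := by
    have h6 := hR.nodup (vert d.swap)
    rw [hPQ, List.perm_middle.nodup_iff] at h6
    refine List.Perm.nodup_iff ?_ |>.1 h6
    exact (List.perm_append_comm).cons _
  clear hPQ
  generalize Q ++ P = B at hrot1 hmemB hndB
  have hBV : ∀ b ∈ B, vert b = vert d.swap := fun b hb => (hmemB b).1 (by simp [hb])
  have hBS : ∀ b ∈ B, edge b ∉ S := fun b hb h' => h2 (hBV b hb ▸ hunp b h')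
  have hBe : ∀ b ∈ B, edge b ≠ edge d := by
    intro b hb h'
    obtain rfl | rfl := eq_or_eq_swap h'
    · exact h2 (hBV b hb ▸ h1)
    · exact (List.nodup_cons.1 hndB).1 hb
  have hds : d ≠ d.swap := by cases d <;> simp
  have hbd1 : bd ν S d = ν d := bd_of_notMem hdS
  have hbd2 : bd ν (insert (edge d) S) d = ν d.swap := bd_of_mem (by simp)
  have hbd3 : bd ν (insert (edge d) S) d.swap = ν d := by rw [bd_of_mem (by simp)]; simp
  have hAV : ∀ b ∈ (d :: A) :: rest |>.flatten, vert b ∈ Vis := fun b hb => (h3.mem b).1 hb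
  have hnd := h3.nodup
  have hne : ∀ b ∈ A ++ rest.flatten, edge b ≠ edge d := by
    intro b hb h'
    have hb' : vert b ∈ Vis := hAV b (by
      simp only [List.flatten_cons, List.mem_append, List.mem_cons] at hb ⊢
      tauto)
    obtain rfl | rfl := eq_or_eq_swap h'
    · simp only [List.flatten_cons, List.cons_append, List.nodup_cons] at hnd
      exact hnd.1 hb
    · exact h2 hb'
  have hmapA : A.map (bd ν (insert (edge d) S)) = A.map (bd ν S) := by
    apply List.map_congr_left
    intro b hb
    exact bd_insert (hne b (by simp [hb]))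
  have hmapB : B.map (bd ν (insert (edge d) S)) = B.map ν := by
    apply List.map_congr_left
    intro b hb
    rw [bd_insert (hBe b hb), bd_of_notMem (hBS b hb)]
  have hrotA := h3.rot (d :: A) (by simp)
  simp only [List.map_cons, List.rotate_cons_succ, List.rotate_zero] at hrotA
  refine ⟨(d :: (B ++ d.swap :: A)) :: rest, ?_, ?_, ?_, ?_, ?_, ?_, ?_, ?_, ?_, ?_, ?_, ?_⟩
  · refine h3.reach.congr_head 1 ?_
    intro K _ ψ hψ
    have e1 : lval ψ B = 1 := lval_eq_one hψ fun b hb h' => hBS b hb (h.sub (by simpa using h'))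
    have e2 : dval ψ d = 1 := by
      have := lval_eq_one hψ (l := [d]) (by
        intro b hb
        simp only [List.mem_singleton] at hb
        subst hb
        simpa using hdΛ)
      simpa using this
    have e3 : dval ψ d.swap = 1 := by
      have := lval_eq_one hψ (l := [d.swap]) (by
        intro b hb
        simp only [List.mem_singleton] at hb
        subst hb
        simpa using hdΛ)
      simpa using this
    simp [e1, e2, e3]
  · exact h.sub.trans (Finset.subset_insert _ _)
  · simp [h.base]
  · intro l hl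
    simp only [List.mem_cons] at hl
    obtain rfl | hl := hl
    · rw [List.map_cons, List.map_append, List.map_cons, hmapA, hmapB, hbd2, hbd3, ← hbd1, hrotA,
        ← List.cons_append, ← List.map_cons, hrot1]
      simp
    · rw [← h3.rot l (by simp [hl])]
      apply List.map_congr_left
      intro b hb
      exact bd_insert (hne b (by
        simp only [List.mem_append, List.mem_flatten]
        exact Or.inr ⟨l, hl, hb⟩))
  · intro l hl
    simp only [List.mem_cons] at hl
    obtain rfl | hl := hl
    · simp
    · exact h3.ne l (by simp [hl])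
  · have hp : ((d :: (B ++ d.swap :: A)) :: rest).flatten.Perm
        ((d.swap :: B) ++ ((d :: A) :: rest).flatten) := by
      simp only [List.flatten_cons, List.cons_append, List.append_assoc]
      refine List.Perm.trans ((List.perm_middle (a := d.swap) (l₁ := B)).cons _) ?_
      refine (List.Perm.swap _ _ _).trans ?_
      exact ((List.perm_middle (a := d) (l₁ := B)).symm).cons _
    rw [hp.nodup_iff, List.nodup_append]
    refine ⟨hndB, h3.nodup, ?_⟩
    rintro b hb c hc rfl
    exact h2 ((hmemB b).1 hb ▸ hAV b hc)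
  · intro b
    have hb3 := h3.mem b
    have hbB := hmemB b
    simp only [List.flatten_cons, List.mem_append, List.mem_cons, Finset.mem_insert] at hb3 hbB ⊢
    rw [← hb3, ← hbB]
    tauto
  · intro e' he'
    rw [Finset.mem_insert] at he'
    obtain rfl | he' := he'
    · cases d with
      | inl e => exact ⟨by simpa using Or.inr h1, by simp⟩
      | inr e => exact ⟨by simp, by simpa using Or.inr h1⟩
    · exact ⟨Finset.mem_insert_of_mem (h.endp e' he').1, Finset.mem_insert_of_mem (h.endp e' he').2⟩
  · have := h3.count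
    simpa using this
  · rw [Finset.card_insert_of_notMem h2, Finset.card_insert_of_notMem hdS]
    have := h.tree
    omega
  · intro Γ _ x
    obtain ⟨τ, ht1, ht2⟩ := h.pot Γ x
    refine ⟨Function.update τ (vert d.swap) (τ (vert d) * dval x d), ?_, ?_⟩
    · rw [Function.update_of_ne, ht1]
      rintro rfl
      exact h2 h.base
    · intro e' he1 he2
      rw [Finset.mem_insert] at he1
      obtain rfl | he1 := he1
      · cases d with
        | inl e =>
          simp only [edge_inl, Sum.swap_inl, dval_inl] at *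
          rw [Function.update_self, Function.update_of_ne]
          intro h'
          exact h2 (h' ▸ h1)
        | inr e =>
          simp only [edge_inr, Sum.swap_inr, dval_inr] at *
          rw [Function.update_self, Function.update_of_ne]
          · simp
          · intro h'
            exact h2 (h' ▸ h1)
      · obtain ⟨h5, h6⟩ := h.endp e' he1
        rw [Function.update_of_ne, Function.update_of_ne, ht2 e' he1 he2]
        · intro h'; exact h2 (h' ▸ h5)
        · intro h'; exact h2 (h' ▸ h6)
  · intro P hP0 hP v hv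
    have hold : ∀ v ∈ Vis, P v := h.tconn P hP0 fun e' he1 he2 => hP e' (Finset.mem_insert_of_mem he1) he2
    rw [Finset.mem_insert] at hv
    obtain rfl | hv := hv
    · have h5 := hP (edge d) (Finset.mem_insert_self _ _) hdΛ
      cases d with
      | inl e => exact h5.1 (hold _ h1)
      | inr e => exact h5.2 (hold _ h1)
    · exact hold v hv

/-- The final state. -/
theorem exists_state [Fintype E] [Fintype V] (hR : IsRibbon ν vert ring v₀) :
    ∃ (Λ : Finset E) (g : ℕ) (comps : List (List (E ⊕ E))),
      State.{u, v, w, w'} ν vert v₀ Finset.univ Finset.univ Λ g comps := by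
  suffices H : ∀ (k : ℕ) (S : Finset E) (Vis : Finset V) (Λ : Finset E) (g : ℕ)
      (comps : List (List (E ⊕ E))), State.{u, v, w, w'} ν vert v₀ S Vis Λ g comps →
      (Finset.univ \ S).card = k → ∃ (Λ : Finset E) (g : ℕ) (comps : List (List (E ⊕ E))),
      State.{u, v, w, w'} ν vert v₀ Finset.univ Finset.univ Λ g comps from
    H _ ∅ {v₀} ∅ 0 _ (State.init hR) rfl
  intro k
  induction k with
  | zero =>
    intro S Vis Λ g comps h hk
    have hS : S = Finset.univ := by
      rw [Finset.card_eq_zero, Finset.sdiff_eq_empty_iff_subset] at hk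
      exact Finset.univ_subset_iff.1 hk
    subst hS
    have hV : Vis = Finset.univ := by
      ext v
      simp only [Finset.mem_univ, iff_true]
      exact hR.conn (· ∈ Vis) h.base (fun e => iff_of_true (h.endp e (by simp)).1 (h.endp e (by simp)).2) v
    subst hV
    exact ⟨Λ, g, comps, h⟩
  | succ k ih =>
    intro S Vis Λ g comps h hk
    by_cases hex : ∃ e, e ∉ S ∧ (vert (.inl e) ∈ Vis ∨ vert (.inr e) ∈ Vis)
    · obtain ⟨e, he, hv⟩ := hex
      have hcard : (Finset.univ \ insert e S).card = k := by
        rw [Finset.sdiff_insert, Finset.card_erase_of_mem (by simpa using he), hk]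
        simp
      by_cases h1 : vert (.inl e) ∈ Vis
      · by_cases h2 : vert (.inr e) ∈ Vis
        · obtain ⟨g', comps', h'⟩ := h.cycleStep he h1 h2
          exact ih _ _ _ _ _ h' hcard
        · obtain ⟨comps', h'⟩ := h.treeStep hR (d := .inl e) h1 h2
          exact ih _ _ _ _ _ h' hcard
      · obtain ⟨comps', h'⟩ := h.treeStep hR (d := .inr e) (hv.resolve_left h1) h1
        exact ih _ _ _ _ _ h' hcard
    · push Not at hex
      exfalso
      have hV : ∀ v, v ∈ Vis := by
        refine hR.conn (· ∈ Vis) h.base fun e => ?_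
        by_cases he : e ∈ S
        · exact iff_of_true (h.endp e he).1 (h.endp e he).2
        · exact iff_of_false (hex e he).1 (hex e he).2
      have hS : S = Finset.univ := by
        ext e
        simp only [Finset.mem_univ, iff_true]
        by_contra he
        exact (hex e he).1 (hV _)
      subst hS
      simp at hk

end Groth.Agent.Pi1.H402.Ribbon
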