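import Groth.Agent.Pi1.H402.Cyc
import Mathlib.GroupTheory.OrderOfElement
import Mathlib.GroupTheory.GroupAction.Quotient
import Mathlib.SetTheory.Cardinal.Finite

/-!
# Surface presentation of stabilizers in free groups

`main`: let `Γ` be the free group on `x_1, …, x_n`, `x_0 = (x_1 ⋯ x_n)⁻¹`, acting transitively on a
finite set `T`; the stabilizer of a point has a presentation with generators `a_j, b_j` (`j < g`) and
`c_k`, one for each cycle of each `x_i`, `i = 0, …, n`, and the single relation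
`∏ [a_j, b_j] ∏ c_k = 1`; moreover `2 g + N + |T| = n |T| + 2`.
-/

set_option autoImplicit false
set_option linter.unusedSectionVars false

universe u v w

namespace Groth.Agent.Pi1.H402.Stab

open Groth.Agent.Pi1.H402.Words Groth.Agent.Pi1.H402.Ribbon Groth.Agent.Pi1.H402.Graph
  Groth.Agent.Pi1.H402.Coc Groth.Agent.Pi1.H402.Cyc

lemma exists_hd {E : Type u} : ∀ (g : ℕ) (L : List (Sym E)), L.map Sym.sh = List.replicate g none →
    ∃ a b : Fin g → FreeGroup E, L = List.ofFn fun j => Sym.hd (a j) (b j) := by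
  intro g
  induction g with
  | zero =>
    intro L h
    simp only [List.replicate_zero, List.map_eq_nil_iff] at h
    subst h
    exact ⟨Fin.elim0, Fin.elim0, by simp⟩
  | succ g ih =>
    intro L h
    rw [List.replicate_succ, List.map_eq_cons_iff] at h
    obtain ⟨s, L', rfl, hs, hL'⟩ := h
    obtain ⟨a, b, rfl⟩ := ih L' hL'
    cases s with
    | pt l u => simp [Sym.sh] at hs
    | hd x y =>
      refine ⟨Fin.cons x a, Fin.cons y b, ?_⟩
      rw [List.ofFn_succ]
      simp

lemma exists_pt {E : Type u} : ∀ (comps : List (List (E ⊕ E))) (L : List (Sym E)),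
    L.map Sym.sh = comps.map some →
    ∃ u : Fin comps.length → FreeGroup E, L = List.ofFn fun k => Sym.pt (comps.get k) (u k) := by
  intro comps
  induction comps with
  | nil =>
    intro L h
    simp only [List.map_nil, List.map_eq_nil_iff] at h
    subst h
    exact ⟨Fin.elim0, by simp⟩
  | cons l comps ih =>
    intro L h
    rw [List.map_cons, List.map_eq_cons_iff] at h
    obtain ⟨s, L', rfl, hs, hL'⟩ := h
    obtain ⟨u, rfl⟩ := ih L' hL'
    cases s with
    | hd x y => simp [Sym.sh] at hs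
    | pt m v =>
      simp only [Sym.sh, Option.some.injEq] at hs
      subst hs
      refine ⟨Fin.cons v u, ?_⟩
      simp only [List.length_cons, List.ofFn_succ]
      simp

lemma lval_comp {E : Type u} {H : Type v} {K : Type w} [Group H] [Group K] (θ : H →* K) (ψ : E → H)
    (l : List (E ⊕ E)) : lval (fun e => θ (ψ e)) l = θ (lval ψ l) := by
  rw [lval, lval, map_list_prod, List.map_map]
  congr 1
  apply List.map_congr_left
  intro d _
  cases d <;> simp

lemma lift_comp {E : Type u} {H : Type v} {K : Type w} [Group H] [Group K] (θ : H →* K) (ψ : E → H)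
    (x : FreeGroup E) : FreeGroup.lift (fun e => θ (ψ e)) x = θ (FreeGroup.lift ψ x) := by
  have : FreeGroup.lift (fun e => θ (ψ e)) = θ.comp (FreeGroup.lift ψ) := by
    ext e; simp
  rw [this]; rfl

/-- Tuple form of the presentation. -/
theorem tuple_of_reach {E : Type u} {Λ : Set E} {g : ℕ} {comps : List (List (E ⊕ E))}
    (h : Reach.{u, w} Λ g comps) :
    ∃ (a b : Fin g → FreeGroup E) (u : Fin comps.length → FreeGroup E),
      ∀ (K : Type w) [Group K],
        (∀ ψ : E → K, Supp Λ ψ →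
          (List.ofFn fun j => FreeGroup.lift ψ (a j) * FreeGroup.lift ψ (b j) *
            (FreeGroup.lift ψ (a j))⁻¹ * (FreeGroup.lift ψ (b j))⁻¹).prod *
          (List.ofFn fun k => FreeGroup.lift ψ (u k) * lval ψ (comps.get k) *
            (FreeGroup.lift ψ (u k))⁻¹).prod = 1) ∧
        ∀ (a' b' : Fin g → K) (c' : Fin comps.length → K),
          (List.ofFn fun j => a' j * b' j * (a' j)⁻¹ * (b' j)⁻¹).prod * (List.ofFn c').prod = 1 →
          ∃! ψ : E → K, Supp Λ ψ ∧ (∀ j, FreeGroup.lift ψ (a j) = a' j ∧ FreeGroup.lift ψ (b j) = b' j) ∧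
            ∀ k, FreeGroup.lift ψ (u k) * lval ψ (comps.get k) * (FreeGroup.lift ψ (u k))⁻¹ = c' k := by
  obtain ⟨L, hG, hL⟩ := h
  rw [List.map_eq_append_iff] at hL
  obtain ⟨L1, L2, rfl, hL1, hL2⟩ := hL
  obtain ⟨a, b, rfl⟩ := exists_hd g L1 hL1
  obtain ⟨u, rfl⟩ := exists_pt comps L2 hL2
  refine ⟨a, b, u, fun K _ => ⟨fun ψ hψ => ?_, fun a' b' c' hrel => ?_⟩⟩
  · have := (hG K).1 ψ hψ
    simpa [List.map_ofFn, Function.comp_def, Sym.eval, Val.ev] using this
  · have h1 := (hG K).2 (List.ofFn (fun j => Val.hd (a' j) (b' j)) ++ List.ofFn (fun k => Val.pt (c' k)))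
      (by simp [List.map_ofFn, Function.comp_def, Val.isHd, Sym.isHd])
      (by simpa [List.map_ofFn, Function.comp_def, Val.ev] using hrel)
    have hiff : ∀ ψ : E → K, (List.ofFn (fun j => Sym.hd (a j) (b j)) ++
        List.ofFn (fun k => Sym.pt (comps.get k) (u k))).map (Sym.eval ψ) =
        List.ofFn (fun j => Val.hd (a' j) (b' j)) ++ List.ofFn (fun k => Val.pt (c' k)) ↔
        (∀ j, FreeGroup.lift ψ (a j) = a' j ∧ FreeGroup.lift ψ (b j) = b' j) ∧
            ∀ k, FreeGroup.lift ψ (u k) * lval ψ (comps.get k) * (FreeGroup.lift ψ (u k))⁻¹ = c' k := by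
      intro ψ
      rw [List.map_append, List.map_ofFn, List.map_ofFn]
      constructor
      · intro hh
        obtain ⟨h2, h3⟩ := List.append_inj hh (by simp)
        rw [List.ofFn_inj] at h2 h3
        refine ⟨fun j => ?_, fun k => ?_⟩
        · have := congrFun h2 j
          simpa [Sym.eval] using this
        · have := congrFun h3 k
          simpa [Sym.eval] using this
      · rintro ⟨h2, h3⟩
        congr 1
        · congr 1
          funext j
          simp [Sym.eval, h2 j]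
        · congr 1
          funext k
          simp only [Function.comp_apply, Sym.eval, Val.pt.injEq]
          exact h3 k
    simpa only [hiff] using h1

lemma exists_zpow_iff {G : Type v} [Group G] {T : Type u} [MulAction G T] [Finite T] (x : G) (p t : T) :
    (∃ n : ℕ, (x ^ n)⁻¹ • p = t) ↔ ∃ z : ℤ, x ^ z • p = t := by
  constructor
  · rintro ⟨n, rfl⟩
    exact ⟨-(n : ℤ), by simp⟩
  · rintro ⟨z, rfl⟩
    let M := orderOf (MulAction.toPermHom G T x)
    have hM : 0 < M := orderOf_pos _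
    have h1 : ∀ q : ℤ, x ^ ((M : ℤ) * q) • p = p := by
      intro q
      have h2 : (MulAction.toPermHom G T x) ^ ((M : ℤ) * q) = 1 := by
        rw [zpow_mul, zpow_natCast, pow_orderOf_eq_one, one_zpow]
      rw [← map_zpow] at h2
      have := congrArg (fun σ : Equiv.Perm T => σ p) h2
      simpa using this
    refine ⟨((-z) % M).toNat, ?_⟩
    have h3 : 0 ≤ (-z) % (M : ℤ) := Int.emod_nonneg _ (by omega)
    rw [← zpow_natCast, Int.toNat_of_nonneg h3, ← zpow_neg]
    have h4 : -((-z) % (M : ℤ)) = z + (M : ℤ) * ((-z) / M) := by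
      have := Int.emod_add_mul_ediv (-z) M
      linarith
    rw [h4, zpow_add, mul_smul, h1]

variable {m : ℕ} {T : Type u} [MulAction (FreeGroup (Fin (m + 1))) T]

theorem main_succ [Finite T] [MulAction.IsPretransitive (FreeGroup (Fin (m + 1))) T] (t₀ : T) :
    ∃ (g N : ℕ) (a b : Fin g → MulAction.stabilizer (FreeGroup (Fin (m + 1))) t₀)
      (c : Fin N → MulAction.stabilizer (FreeGroup (Fin (m + 1))) t₀)
      (i : Fin N → Fin (m + 2)) (h : Fin N → FreeGroup (Fin (m + 1))),
      (∀ k, (c k).1 = h k * X m (i k) ^ MulAction.period (X m (i k)) ((h k)⁻¹ • t₀) * (h k)⁻¹) ∧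
      (∀ j (t : T), ∃! k, i k = j ∧ ∃ z : ℤ, X m j ^ z • ((h k)⁻¹ • t₀) = t) ∧
      (List.ofFn fun j => a j * b j * (a j)⁻¹ * (b j)⁻¹).prod * (List.ofFn c).prod = 1 ∧
      2 * g + N + Nat.card T = (m + 1) * Nat.card T + 2 ∧
      ∀ (K : Type) [Group K] (a' b' : Fin g → K) (c' : Fin N → K),
        (List.ofFn fun j => a' j * b' j * (a' j)⁻¹ * (b' j)⁻¹).prod * (List.ofFn c').prod = 1 →
        ∃! θ : MulAction.stabilizer (FreeGroup (Fin (m + 1))) t₀ →* K,
          (∀ j, θ (a j) = a' j ∧ θ (b j) = b' j) ∧ ∀ k, θ (c k) = c' k := by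
  classical
  have : Fintype T := Fintype.ofFinite T
  obtain ⟨Λ, g, comps, hS⟩ := exists_state.{u, u, 0, 0} (isRibbon (m := m) t₀)
  have hbd : bd (nu (m := m) (T := T)) Finset.univ = bt := by
    funext d
    simp [bd, bt]
  obtain ⟨τ, hτ1, hτ2⟩ := hS.pot (FreeGroup (Fin (m + 1))) (fun e => FreeGroup.of e.2)
  have hτ2' : ∀ e : T × Fin (m + 1), e ∉ Λ →
      τ ((FreeGroup.of e.2)⁻¹ • e.1) = τ e.1 * FreeGroup.of e.2 := fun e he =>
    hτ2 e (Finset.mem_univ _) he
  have hτ : ∀ p, (τ p)⁻¹ • t₀ = p := fun p => by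
    refine hS.tconn (fun p => (τ p)⁻¹ • t₀ = p) (by simp [hτ1]) ?_ p (Finset.mem_univ _)
    intro e _ he
    change (τ e.1)⁻¹ • t₀ = e.1 ↔ (τ ((FreeGroup.of e.2)⁻¹ • e.1))⁻¹ • t₀ = (FreeGroup.of e.2)⁻¹ • e.1
    rw [hτ2' e he, mul_inv_rev, mul_smul, smul_left_cancel_iff]
  have hc : ∀ (K : Type) [Group K] (ψ : T × Fin (m + 1) → K), Supp (Λ : Set (T × Fin (m + 1))) ψ →
      ∀ p, coc ψ (τ p) t₀ = 1 := by
    intro K _ ψ hψ p
    refine hS.tconn (fun p => coc ψ (τ p) t₀ = 1) (by simp [hτ1]) ?_ p (Finset.mem_univ _)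
    intro e _ he
    change coc ψ (τ e.1) t₀ = 1 ↔ coc ψ (τ ((FreeGroup.of e.2)⁻¹ • e.1)) t₀ = 1
    have h1 : ψ (e.1, e.2) = 1 := hψ e (by simpa using he)
    rw [hτ2' e he, coc_mul, coc_of, hτ, h1, mul_one]
  have hsch : Supp (Λ : Set (T × Fin (m + 1))) (sch t₀ τ hτ) := by
    intro e he
    apply Subtype.ext
    rw [coe_sch, hτ2' e (by simpa using he)]
    simp
  obtain ⟨a₀, b₀, u₀, hT⟩ := tuple_of_reach hS.reach
  -- the boundary cycles
  have hrot : ∀ k, (comps.get k).map bt = (comps.get k).rotate 1 := fun k => by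
    have := hS.rot (comps.get k) (List.get_mem _ _)
    rwa [hbd] at this
  have hnd := hS.nodup
  rw [List.nodup_flatten] at hnd
  have hnod : ∀ k, (comps.get k).Nodup := fun k => hnd.1 _ (List.get_mem _ _)
  have hex : ∀ k, ∃ (i : Fin (m + 2)) (p : T) (P Q : List ((T × Fin (m + 1)) ⊕ (T × Fin (m + 1)))),
      comps.get k = P ++ nd i p :: Q := by
    intro k
    obtain ⟨i, p, hip⟩ := exists_nd_mem (hrot k) (hS.ne _ (List.get_mem _ _))
    obtain ⟨P, Q, hPQ⟩ := List.append_of_mem hip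
    exact ⟨i, p, P, Q, hPQ⟩
  choose i p P Q hPQ using hex
  have hmemk : ∀ k, nd (i k) (p k) ∈ comps.get k := fun k => by rw [hPQ k]; simp
  let H := MulAction.stabilizer (FreeGroup (Fin (m + 1))) t₀
  let a : Fin g → H := fun j => FreeGroup.lift (sch t₀ τ hτ) (a₀ j)
  let b : Fin g → H := fun j => FreeGroup.lift (sch t₀ τ hτ) (b₀ j)
  let c : Fin comps.length → H := fun k => FreeGroup.lift (sch t₀ τ hτ) (u₀ k) *
    lval (sch t₀ τ hτ) (comps.get k) * (FreeGroup.lift (sch t₀ τ hτ) (u₀ k))⁻¹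
  let h : Fin comps.length → FreeGroup (Fin (m + 1)) := fun k =>
    (FreeGroup.lift (sch t₀ τ hτ) (u₀ k) * lval (sch t₀ τ hτ) (P k)).1 * τ (p k)
  have hh : ∀ k, (h k)⁻¹ • t₀ = p k := by
    intro k
    have h1 : ∀ x : H, x.1⁻¹ • t₀ = t₀ := fun x => (x⁻¹).2
    simp only [h, mul_inv_rev]
    rw [mul_smul, h1, hτ]
  refine ⟨g, comps.length, a, b, c, i, h, ?_, ?_, ?_, ?_, ?_⟩
  · intro k
    rw [hh]
    simp only [c, h, Subgroup.coe_mul, Subgroup.coe_inv]
    rw [coe_lval_cycle t₀ τ hτ (hrot k) (hnod k) (hPQ k)]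
    group
  · intro j t
    have h1 : nd j t ∈ comps.flatten := (hS.mem _).2 (Finset.mem_univ _)
    rw [List.mem_flatten] at h1
    obtain ⟨l, hl, hjl⟩ := h1
    obtain ⟨k, rfl⟩ := List.get_of_mem hl
    refine ⟨k, ?_, ?_⟩
    · obtain ⟨h2, h3⟩ := (mem_cycle (hrot k) (hnod k) (hmemk k) j t).1 hjl
      refine ⟨h2.symm, ?_⟩
      rw [hh, h2, ← exists_zpow_iff]
      exact h3
    · rintro k' ⟨h2, h3⟩
      rw [hh, ← exists_zpow_iff] at h3
      have h4 : nd j t ∈ comps.get k' :=
        (mem_cycle (hrot k') (hnod k') (hmemk k') j t).2 ⟨h2.symm, by rw [h2]; exact h3⟩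
      by_contra hne
      have h5 : List.Disjoint (comps.get k) (comps.get k') ∨ List.Disjoint (comps.get k') (comps.get k) := by
        have h6 := List.pairwise_iff_get.1 hnd.2
        rcases lt_or_gt_of_ne hne with h7 | h7
        · exact Or.inr (h6 _ _ h7)
        · exact Or.inl (h6 _ _ h7)
      rcases h5 with h5 | h5
      · exact h5 hjl h4
      · exact h5 h4 hjl
  · exact (hT H).1 (sch t₀ τ hτ) hsch
  · have h1 := hS.count
    have h2 := hS.tree
    rw [Finset.card_univ, Finset.card_univ, Fintype.card_prod, Fintype.card_fin] at h2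
    rw [Nat.card_eq_fintype_card, mul_comm (m + 1)]
    omega
  · intro K _ a' b' c' hrel
    obtain ⟨ψ, ⟨h1, h2, h3⟩, h4⟩ := (hT K).2 a' b' c' hrel
    obtain ⟨θ, hθ1, hθ2⟩ := existsUnique_hom t₀ τ hτ hτ1 ψ (hc K ψ h1)
    have hθψ : (fun e => θ (sch t₀ τ hτ e)) = ψ := funext hθ1
    refine ⟨θ, ⟨fun j => ?_, fun k => ?_⟩, fun θ' hθ' => ?_⟩
    · simp only [a, b]
      rw [← lift_comp, ← lift_comp, hθψ]
      exact h2 j
    · simp only [c]
      rw [map_mul, map_mul, map_inv, ← lift_comp, ← lval_comp, hθψ]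
      exact h3 k
    · apply hθ2
      intro e
      have h5 := h4 (fun e => θ' (sch t₀ τ hτ e)) ⟨?_, ?_, ?_⟩
      · exact congrFun h5 e
      · intro e he
        simp only
        rw [hsch e he, map_one]
      · intro j
        rw [lift_comp, lift_comp]
        exact hθ'.1 j
      · intro k
        have := hθ'.2 k
        simp only [c] at this
        rw [lift_comp, lval_comp, ← map_inv, ← map_mul, ← map_mul]
        exact this

end Groth.Agent.Pi1.H402.Stab
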