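import Mathlib.GroupTheory.FreeGroup.Basic
import Mathlib.Data.List.Rotate
import Mathlib.Data.Finset.Basic
import Mathlib.Tactic.Group

/-!
# Surface words

`E` is a set of edges, `E ⊕ E` the set of darts (`Sum.inl e` the start, `Sum.inr e` the end of the
edge). A state is a list of symbols: handles `hd a b` and boundary components `pt l u`, `l` a list of
darts and `u` a conjugating word. `Reach Λ g comps` says that the group freely generated by the letters
in `Λ` is presented by `g` handles and the boundary components `comps` with the single relation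
`∏ [a_j, b_j] ∏ c_k = 1`.
-/

set_option autoImplicit false

universe u w

namespace Groth.Agent.Pi1.H402.Words

/-- Values of symbols. -/
inductive Val (K : Type w) : Type w
  | hd (a b : K) : Val K
  | pt (c : K) : Val K

/-- Symbols: a handle, or a boundary component with a conjugating word. -/
inductive Sym (E : Type u) : Type u
  | hd (a b : FreeGroup E) : Sym E
  | pt (l : List (E ⊕ E)) (u : FreeGroup E) : Sym E

variable {E : Type u} {K : Type w} [Group K]

/-- The value of a symbol value in the group. -/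
def Val.ev : Val K → K
  | .hd a b => a * b * a⁻¹ * b⁻¹
  | .pt c => c

/-- conjugation -/
def Val.conj (k : K) : Val K → Val K
  | .hd a b => .hd (k * a * k⁻¹) (k * b * k⁻¹)
  | .pt c => .pt (k * c * k⁻¹)

/-- Is it a handle? -/
def Val.isHd {K : Type w} : Val K → Bool
  | .hd _ _ => true
  | .pt _ => false

/-- Is it a handle? -/
def Sym.isHd : Sym E → Bool
  | .hd _ _ => true
  | .pt _ _ => false

/-- The shape of a symbol. -/
def Sym.sh : Sym E → Option (List (E ⊕ E))
  | .hd _ _ => none
  | .pt l _ => some l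

/-- The word of a dart. -/
def dword : E ⊕ E → FreeGroup E
  | .inl e => FreeGroup.of e
  | .inr e => (FreeGroup.of e)⁻¹

/-- The value of a dart. -/
def dval (ψ : E → K) : E ⊕ E → K
  | .inl e => ψ e
  | .inr e => (ψ e)⁻¹

@[simp] lemma dval_inl (ψ : E → K) (e : E) : dval ψ (.inl e) = ψ e := rfl
@[simp] lemma dval_inr (ψ : E → K) (e : E) : dval ψ (.inr e) = (ψ e)⁻¹ := rfl

@[simp] lemma lift_dword (ψ : E → K) (d : E ⊕ E) : FreeGroup.lift ψ (dword d) = dval ψ d := by
  cases d <;> simp [dword, dval]

/-- The value of a list of darts. -/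
def lval (ψ : E → K) (l : List (E ⊕ E)) : K := (l.map (dval ψ)).prod

@[simp] lemma lval_nil (ψ : E → K) : lval ψ [] = 1 := rfl
@[simp] lemma lval_cons (ψ : E → K) (d : E ⊕ E) (l : List (E ⊕ E)) :
    lval ψ (d :: l) = dval ψ d * lval ψ l := by simp [lval]
@[simp] lemma lval_append (ψ : E → K) (l m : List (E ⊕ E)) :
    lval ψ (l ++ m) = lval ψ l * lval ψ m := by simp [lval]

/-- The word of a list of darts. -/
def lword (l : List (E ⊕ E)) : FreeGroup E := (l.map dword).prod

@[simp] lemma lift_lword (ψ : E → K) (l : List (E ⊕ E)) :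
    FreeGroup.lift ψ (lword l) = lval ψ l := by
  rw [lword, lval, map_list_prod, List.map_map]
  congr 1
  apply List.map_congr_left
  intro d _
  simp

/-- Evaluation of a symbol. -/
def Sym.eval (ψ : E → K) : Sym E → Val K
  | .hd a b => .hd (FreeGroup.lift ψ a) (FreeGroup.lift ψ b)
  | .pt l u => .pt (FreeGroup.lift ψ u * lval ψ l * (FreeGroup.lift ψ u)⁻¹)

/-- The word of a symbol. -/
def Sym.word : Sym E → FreeGroup E
  | .hd a b => a * b * a⁻¹ * b⁻¹
  | .pt l u => u * lword l * u⁻¹

/-- conjugation -/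
def Sym.conj (g : FreeGroup E) : Sym E → Sym E
  | .hd a b => .hd (g * a * g⁻¹) (g * b * g⁻¹)
  | .pt l u => .pt l (g * u)

lemma Sym.ev_eval (ψ : E → K) (s : Sym E) : (s.eval ψ).ev = FreeGroup.lift ψ s.word := by
  cases s <;> simp [Sym.eval, Val.ev, Sym.word]

lemma Sym.eval_conj (ψ : E → K) (g : FreeGroup E) (s : Sym E) :
    (s.conj g).eval ψ = (s.eval ψ).conj (FreeGroup.lift ψ g) := by
  cases s <;> simp [Sym.eval, Sym.conj, Val.conj, mul_assoc]

lemma Val.ev_conj (k : K) (v : Val K) : (v.conj k).ev = k * v.ev * k⁻¹ := by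
  cases v <;> simp [Val.conj, Val.ev, mul_assoc]

lemma Val.conj_conj (k m : K) (v : Val K) : (v.conj k).conj m = v.conj (m * k) := by
  cases v <;> simp [Val.conj, mul_assoc]

@[simp] lemma Val.conj_one (v : Val K) : v.conj 1 = v := by
  cases v <;> simp [Val.conj]

@[simp] lemma Val.isHd_conj (k : K) (v : Val K) : (v.conj k).isHd = v.isHd := by
  cases v <;> rfl

@[simp] lemma Sym.isHd_conj (g : FreeGroup E) (s : Sym E) : (s.conj g).isHd = s.isHd := by
  cases s <;> rfl

@[simp] lemma Sym.sh_conj (g : FreeGroup E) (s : Sym E) : (s.conj g).sh = s.sh := by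
  cases s <;> rfl

@[simp] lemma Sym.isHd_eval (ψ : E → K) (s : Sym E) : (s.eval ψ).isHd = s.isHd := by
  cases s <;> rfl

lemma Sym.isHd_of_sh {s t : Sym E} (h : s.sh = t.sh) : s.isHd = t.isHd := by
  cases s <;> cases t <;> simp_all [Sym.sh, Sym.isHd]

/-- Functions supported on `Λ`. -/
def Supp (Λ : Set E) (ψ : E → K) : Prop := ∀ e, e ∉ Λ → ψ e = 1

/-- The list of symbols presents the free group on `Λ`. -/
def Good (Λ : Set E) (L : List (Sym E)) : Prop :=
  ∀ (K : Type w) [Group K], (∀ ψ : E → K, Supp Λ ψ → ((L.map (Sym.eval ψ)).map Val.ev).prod = 1) ∧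
    ∀ s : List (Val K), s.map Val.isHd = L.map Sym.isHd → (s.map Val.ev).prod = 1 →
      ∃! ψ : E → K, Supp Λ ψ ∧ L.map (Sym.eval ψ) = s

lemma Good.congr {Λ : Set E} {L L' : List (Sym E)} (h : Good.{u, w} Λ L)
    (hs : L.map Sym.isHd = L'.map Sym.isHd)
    (he : ∀ (K : Type w) [Group K] (ψ : E → K), Supp Λ ψ → L.map (Sym.eval ψ) = L'.map (Sym.eval ψ)) :
    Good.{u, w} Λ L' := by
  intro K _
  refine ⟨fun ψ hψ => ?_, fun s hs1 hs2 => ?_⟩
  · rw [← he K ψ hψ]
    exact (h K).1 ψ hψ
  · obtain ⟨ψ, ⟨h1, h2⟩, h3⟩ := (h K).2 s (hs1.trans hs.symm) hs2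
    refine ⟨ψ, ⟨h1, ?_⟩, fun ψ' hψ' => h3 ψ' ⟨hψ'.1, ?_⟩⟩
    · rw [← he K ψ h1]; exact h2
    · rw [he K ψ' hψ'.1]; exact hψ'.2

/-- swap two adjacent symbols -/
lemma Good.swap {Λ : Set E} {X Y : List (Sym E)} {s t : Sym E} (h : Good.{u, w} Λ (X ++ s :: t :: Y)) :
    Good.{u, w} Λ (X ++ t :: (s.conj t.word⁻¹) :: Y) := by
  intro K _
  refine ⟨fun ψ hψ => ?_, fun v hv1 hv2 => ?_⟩
  · have h1 := (h K).1 ψ hψ
    simp only [List.map_append, List.map_cons, List.prod_append, List.prod_cons] at h1 ⊢
    rw [← h1, Sym.eval_conj, Val.ev_conj, map_inv, ← Sym.ev_eval]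
    group
  · rw [List.map_append, List.map_eq_append_iff] at hv1
    obtain ⟨X', Y0, rfl, hX, hY0⟩ := hv1
    rw [List.map_cons, List.map_eq_cons_iff] at hY0
    obtain ⟨t', Y1, rfl, ht, hY1⟩ := hY0
    rw [List.map_cons, List.map_eq_cons_iff] at hY1
    obtain ⟨s', Y', rfl, hs, hY⟩ := hY1
    have hkey : ∀ ψ : E → K, (X ++ t :: (s.conj t.word⁻¹) :: Y).map (Sym.eval ψ) = X' ++ t' :: s' :: Y' ↔
        (X ++ s :: t :: Y).map (Sym.eval ψ) = X' ++ s'.conj t'.ev :: t' :: Y' := by
      intro ψ
      have hl : (X.map (Sym.eval ψ)).length = X'.length := by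
        have := congrArg List.length hX
        simpa using this.symm
      rw [List.map_append, List.map_append, List.map_cons, List.map_cons, List.map_cons, List.map_cons]
      constructor
      · intro hh
        obtain ⟨h1, h2⟩ := List.append_inj hh hl
        simp only [List.cons.injEq] at h2
        obtain ⟨h3, h4, h5⟩ := h2
        rw [h1, h3, h5, ← h4, Sym.eval_conj, Val.conj_conj, map_inv, ← Sym.ev_eval, h3]
        simp
      · intro hh
        obtain ⟨h1, h2⟩ := List.append_inj hh hl
        simp only [List.cons.injEq] at h2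
        obtain ⟨h3, h4, h5⟩ := h2
        rw [h1, h4, h5, Sym.eval_conj, map_inv, ← Sym.ev_eval, h3, h4, Val.conj_conj]
        simp
    have h6 := (h K).2 (X' ++ s'.conj t'.ev :: t' :: Y') (by
      simp only [List.map_append, List.map_cons, hX, ht, hY, Val.isHd_conj, hs, Sym.isHd_conj]) (by
      simp only [List.map_append, List.map_cons, List.prod_append, List.prod_cons, Val.ev_conj] at hv2 ⊢
      rw [← hv2]
      group)
    obtain ⟨ψ, ⟨h7, h8⟩, h9⟩ := h6
    exact ⟨ψ, ⟨h7, (hkey ψ).2 h8⟩, fun ψ' hψ' => h9 ψ' ⟨hψ'.1, (hkey ψ').1 hψ'.2⟩⟩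

/-- the shapes may be permuted -/
lemma Good.perm {Λ : Set E} {sh₁ sh₂ : List (Option (List (E ⊕ E)))} (hp : sh₁.Perm sh₂) :
    ∀ (X L : List (Sym E)), L.map Sym.sh = sh₁ → Good.{u, w} Λ (X ++ L) →
      ∃ L', L'.map Sym.sh = sh₂ ∧ Good.{u, w} Λ (X ++ L') := by
  induction hp with
  | nil =>
    intro X L hL hG
    exact ⟨L, hL, hG⟩
  | cons x _ ih =>
    intro X L hL hG
    rw [List.map_eq_cons_iff] at hL
    obtain ⟨s, L1, rfl, hs, hL1⟩ := hL
    obtain ⟨L', hL', hG'⟩ := ih (X ++ [s]) L1 hL1 (by simpa using hG)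
    exact ⟨s :: L', by simp [hs, hL'], by simpa using hG'⟩
  | swap x y l =>
    intro X L hL hG
    rw [List.map_eq_cons_iff] at hL
    obtain ⟨s, L1, rfl, hs, hL1⟩ := hL
    rw [List.map_eq_cons_iff] at hL1
    obtain ⟨t, L2, rfl, ht, hL2⟩ := hL1
    exact ⟨t :: (s.conj t.word⁻¹) :: L2, by simp [hs, ht, hL2], hG.swap⟩
  | trans _ _ ih1 ih2 =>
    intro X L hL hG
    obtain ⟨L', hL', hG'⟩ := ih1 X L hL hG
    exact ih2 X L' hL' hG'

/-- The group freely generated by `Λ` is presented by `g` handles and the boundary components. -/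
def Reach (Λ : Set E) (g : ℕ) (comps : List (List (E ⊕ E))) : Prop :=
  ∃ L : List (Sym E), Good.{u, w} Λ L ∧ L.map Sym.sh = List.replicate g none ++ comps.map some

lemma Reach.exists_of_perm {Λ : Set E} {g : ℕ} {comps : List (List (E ⊕ E))} (h : Reach.{u, w} Λ g comps)
    {sh₂ : List (Option (List (E ⊕ E)))} (hp : (List.replicate g none ++ comps.map some).Perm sh₂) :
    ∃ L' : List (Sym E), L'.map Sym.sh = sh₂ ∧ Good.{u, w} Λ L' := by
  obtain ⟨L, hG, hL⟩ := h
  obtain ⟨L', h1, h2⟩ := Good.perm hp [] L hL (by simpa using hG)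
  exact ⟨L', h1, by simpa using h2⟩

lemma Reach.of_perm {Λ : Set E} {g : ℕ} {comps : List (List (E ⊕ E))} {L : List (Sym E)}
    (hG : Good.{u, w} Λ L) (hp : (L.map Sym.sh).Perm (List.replicate g none ++ comps.map some)) :
    Reach.{u, w} Λ g comps := by
  obtain ⟨L', h1, h2⟩ := Good.perm hp [] L rfl (by simpa using hG)
  exact ⟨L', by simpa using h2, h1⟩

/-- the components may be permuted -/
lemma Reach.perm {Λ : Set E} {g : ℕ} {comps comps' : List (List (E ⊕ E))} (h : Reach.{u, w} Λ g comps)
    (hp : comps.Perm comps') : Reach.{u, w} Λ g comps' := by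
  obtain ⟨L, h1, h2⟩ := h.exists_of_perm (sh₂ := List.replicate g none ++ comps'.map some)
    ((hp.map some).append_left _)
  exact ⟨L, h2, h1⟩

/-- the first component may be changed if its value does not change -/
lemma Reach.congr_head {Λ : Set E} {g : ℕ} {l l' : List (E ⊕ E)} {comps : List (List (E ⊕ E))}
    (h : Reach.{u, w} Λ g (l :: comps)) (k : FreeGroup E)
    (hl : ∀ (K : Type w) [Group K] (ψ : E → K), Supp Λ ψ →
      lval ψ l' = FreeGroup.lift ψ k * lval ψ l * (FreeGroup.lift ψ k)⁻¹) :
    Reach.{u, w} Λ g (l' :: comps) := by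
  obtain ⟨L, h1, h2⟩ := h.exists_of_perm (sh₂ := some l :: (List.replicate g none ++ comps.map some))
    (by simp)
  rw [List.map_eq_cons_iff] at h1
  obtain ⟨s, L1, rfl, hs, hL1⟩ := h1
  cases s with
  | hd a b => simp [Sym.sh] at hs
  | pt m u =>
    simp only [Sym.sh, Option.some.injEq] at hs
    subst hs
    refine Reach.of_perm (L := .pt l' (u * k⁻¹) :: L1) (h2.congr rfl ?_) ?_
    · intro K _ ψ hψ
      simp only [List.map_cons, Sym.eval, hl K ψ hψ, map_mul, map_inv]
      congr 2
      group
    · simp only [List.map_cons, Sym.sh, hL1]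
      exact List.perm_middle.symm

/-- rotate a component -/
lemma Reach.rotate {Λ : Set E} {g : ℕ} {l l' : List (E ⊕ E)} {comps : List (List (E ⊕ E))}
    (h : Reach.{u, w} Λ g (l :: comps)) (hl : l ~r l') : Reach.{u, w} Λ g (l' :: comps) := by
  obtain ⟨n, hn, rfl⟩ := List.isRotated_iff_mod.1 hl
  rw [List.rotate_eq_drop_append_take hn]
  refine h.congr_head (lword (l.take n))⁻¹ ?_
  intro K _ ψ _
  have : lval ψ l = lval ψ (l.take n) * lval ψ (l.drop n) := by
    rw [← lval_append, List.take_append_drop]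
  simp only [map_inv, lift_lword, this, lval_append]
  group

section Kill

variable [DecidableEq E]

/-- Substitute `1` for the letter `e`. -/
def kill (e : E) : FreeGroup E →* FreeGroup E :=
  FreeGroup.lift fun e' => if e' = e then 1 else FreeGroup.of e'

lemma lift_kill (ψ : E → K) (e : E) (x : FreeGroup E) :
    FreeGroup.lift ψ (kill e x) = FreeGroup.lift (Function.update ψ e 1) x := by
  have : (FreeGroup.lift ψ).comp (kill e) = FreeGroup.lift (Function.update ψ e 1) := by
    ext e'
    by_cases h : e' = e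
    · subst h; simp [kill]
    · simp [kill, h]
  exact DFunLike.congr_fun this x

/-- Substitute `1` for the letter `e` in the words of a symbol. -/
def Sym.kill (e : E) : Sym E → Sym E
  | .hd a b => .hd (Words.kill e a) (Words.kill e b)
  | .pt l u => .pt l (Words.kill e u)

@[simp] lemma Sym.isHd_kill (e : E) (s : Sym E) : (s.kill e).isHd = s.isHd := by
  cases s <;> rfl

@[simp] lemma Sym.sh_kill (e : E) (s : Sym E) : (s.kill e).sh = s.sh := by
  cases s <;> rfl

lemma dval_update (ψ : E → K) (e : E) (k : K) {d : E ⊕ E} (h1 : d ≠ .inl e) (h2 : d ≠ .inr e) :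
    dval (Function.update ψ e k) d = dval ψ d := by
  cases d with
  | inl e' => simp only [dval_inl]; rw [Function.update_of_ne]; rintro rfl; exact h1 rfl
  | inr e' => simp only [dval_inr]; rw [Function.update_of_ne]; rintro rfl; exact h2 rfl

lemma lval_update (ψ : E → K) (e : E) (k : K) {l : List (E ⊕ E)} (h1 : .inl e ∉ l) (h2 : .inr e ∉ l) :
    lval (Function.update ψ e k) l = lval ψ l := by
  rw [lval, lval]
  congr 1
  apply List.map_congr_left
  intro d hd
  exact dval_update ψ e k (fun h => h1 (h ▸ hd)) (fun h => h2 (h ▸ hd))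

lemma Sym.eval_kill (ψ : E → K) (e : E) (s : Sym E)
    (hs : ∀ l, s.sh = some l → .inl e ∉ l ∧ .inr e ∉ l) :
    (s.kill e).eval ψ = s.eval (Function.update ψ e 1) := by
  cases s with
  | hd a b => simp [Sym.kill, Sym.eval, lift_kill]
  | pt l u =>
    obtain ⟨h1, h2⟩ := hs l rfl
    simp [Sym.kill, Sym.eval, lift_kill, lval_update ψ e 1 h1 h2]

lemma Sym.map_eval_kill (ψ : E → K) (e : E) (L : List (Sym E))
    (hs : ∀ l, some l ∈ L.map Sym.sh → .inl e ∉ l ∧ .inr e ∉ l) :
    (L.map (Sym.kill e)).map (Sym.eval ψ) = L.map (Sym.eval (Function.update ψ e 1)) := by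
  rw [List.map_map]
  apply List.map_congr_left
  intro s hsL
  exact Sym.eval_kill ψ e s fun l hl => hs l (hl ▸ List.mem_map_of_mem hsL)

lemma Supp.update_one {Λ : Set E} {ψ : E → K} {e : E} (h : Supp (insert e Λ) ψ) :
    Supp Λ (Function.update ψ e 1) := by
  intro e' he'
  by_cases h1 : e' = e
  · subst h1; simp
  · rw [Function.update_of_ne h1]
    exact h e' (by simp [h1, he'])

lemma Supp.update {Λ : Set E} {ψ : E → K} (e : E) (k : K) (h : Supp Λ ψ) :
    Supp (insert e Λ) (Function.update ψ e k) := by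
  intro e' he'
  simp only [Set.mem_insert_iff, not_or] at he'
  rw [Function.update_of_ne he'.1]
  exact h e' he'.2

lemma update_update_one {Λ : Set E} {ψ : E → K} {e : E} (he : e ∉ Λ) (h : Supp Λ ψ) (k : K) :
    Function.update (Function.update ψ e k) e 1 = ψ := by
  rw [Function.update_idem]
  conv_rhs => rw [← Function.update_eq_self e ψ]
  rw [h e he]

/-- attach a band along one boundary component -/
lemma Reach.split {Λ : Set E} {g : ℕ} {e : E} {A B : List (E ⊕ E)} {comps : List (List (E ⊕ E))}
    (h : Reach.{u, w} Λ g ((.inl e :: (A ++ .inr e :: B)) :: comps)) (he : e ∉ Λ)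
    (hA : .inl e ∉ A ∧ .inr e ∉ A) (hB : .inl e ∉ B ∧ .inr e ∉ B)
    (hc : ∀ l ∈ comps, .inl e ∉ l ∧ .inr e ∉ l) :
    Reach.{u, w} (insert e Λ) g ((.inr e :: A) :: (.inl e :: B) :: comps) := by
  obtain ⟨L, h1, h2⟩ := h.exists_of_perm
    (sh₂ := some (.inl e :: (A ++ .inr e :: B)) :: (List.replicate g none ++ comps.map some))
    List.perm_middle
  rw [List.map_eq_cons_iff] at h1
  obtain ⟨s, L1, rfl, hs, hL1⟩ := h1
  cases s with
  | hd a b => simp [Sym.sh] at hs
  | pt m u =>
    simp only [Sym.sh, Option.some.injEq] at hs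
    subst hs
    have hk : ∀ (K : Type w) [Group K] (ψ : E → K), (L1.map (Sym.kill e)).map (Sym.eval ψ) =
        L1.map (Sym.eval (Function.update ψ e 1)) := by
      intro K _ ψ
      refine Sym.map_eval_kill ψ e L1 fun l hl => ?_
      rw [hL1] at hl
      simp only [List.mem_append, List.mem_replicate, List.mem_map, Option.some.injEq] at hl
      obtain hl | ⟨l', hl', rfl⟩ := hl
      · simp at hl
      · exact hc l' hl'
    refine Reach.of_perm (L := .pt (.inr e :: A) (kill e u * FreeGroup.of e) ::
      .pt (.inl e :: B) (kill e u) :: L1.map (Sym.kill e)) ?_ ?_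
    · intro K _
      refine ⟨fun ψ hψ => ?_, fun v hv1 hv2 => ?_⟩
      · have h3 := (h2 K).1 _ hψ.update_one
        simp only [List.map_cons, List.prod_cons, hk, Sym.eval, Val.ev] at h3 ⊢
        refine Eq.trans ?_ h3
        simp only [lval_cons, lval_append, dval_inl, dval_inr, Function.update_self, map_mul, lift_kill,
          FreeGroup.lift_apply_of, lval_update ψ e 1 hA.1 hA.2, lval_update ψ e 1 hB.1 hB.2]
        group
      · simp only [List.map_cons, Sym.isHd] at hv1
        rw [List.map_eq_cons_iff] at hv1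
        obtain ⟨v1, V1, rfl, hv1', hV1⟩ := hv1
        rw [List.map_eq_cons_iff] at hV1
        obtain ⟨v2, V2, rfl, hv2', hV2⟩ := hV1
        cases v1 with
        | hd a b => simp [Val.isHd] at hv1'
        | pt c1 =>
        cases v2 with
        | hd a b => simp [Val.isHd] at hv2'
        | pt c2 =>
        have h3 := (h2 K).2 (.pt (c1 * c2) :: V2) (by
          simp only [List.map_cons, Val.isHd, Sym.isHd, hV2, List.map_map]
          congr 1
          apply List.map_congr_left
          intro s _
          simp) (by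
          simp only [List.map_cons, List.prod_cons, Val.ev] at hv2 ⊢
          rw [← hv2]; group)
        obtain ⟨ψ₀, ⟨h4, h5⟩, h6⟩ := h3
        simp only [List.map_cons, Sym.eval, List.cons.injEq, Val.pt.injEq] at h5
        obtain ⟨h7, h8⟩ := h5
        have he0 : ψ₀ e = 1 := h4 e he
        simp only [lval_cons, lval_append, dval_inl, dval_inr, he0] at h7
        have hmain : ∀ ψ : E → K, Supp (insert e Λ) ψ → (List.map (Sym.eval ψ) (.pt (.inr e :: A) (kill e u * FreeGroup.of e) ::
            .pt (.inl e :: B) (kill e u) :: L1.map (Sym.kill e)) = .pt c1 :: .pt c2 :: V2 ↔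
            Function.update ψ e 1 = ψ₀ ∧ ψ e = (FreeGroup.lift ψ₀ u)⁻¹ * c2 * FreeGroup.lift ψ₀ u *
              (lval ψ₀ B)⁻¹) := by
          intro ψ hψ
          simp only [List.map_cons, Sym.eval, hk, List.cons.injEq, Val.pt.injEq]
          constructor
          · rintro ⟨h9, h10, h11⟩
            have h12 : Function.update ψ e 1 = ψ₀ := by
              refine h6 _ ⟨hψ.update_one, ?_⟩
              simp only [List.map_cons, Sym.eval, h11, List.cons.injEq, Val.pt.injEq, and_true]
              rw [← h9, ← h10]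
              simp only [lval_cons, lval_append, dval_inl, dval_inr, Function.update_self, map_mul, lift_kill,
                FreeGroup.lift_apply_of, lval_update ψ e 1 hA.1 hA.2, lval_update ψ e 1 hB.1 hB.2]
              group
            refine ⟨h12, ?_⟩
            rw [← h10]
            simp only [lift_kill, h12, lval_cons, dval_inl]
            rw [← h12, lval_update ψ e 1 hB.1 hB.2]
            group
          · rintro ⟨h9, h10⟩
            have hA' : lval ψ A = lval ψ₀ A := by rw [← h9, lval_update ψ e 1 hA.1 hA.2]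
            have hB' : lval ψ B = lval ψ₀ B := by rw [← h9, lval_update ψ e 1 hB.1 hB.2]
            refine ⟨?_, ?_, ?_⟩
            · simp only [lval_cons, dval_inr, map_mul, lift_kill, FreeGroup.lift_apply_of, h9, hA']
              have : c1 = FreeGroup.lift ψ₀ u * lval ψ₀ A * lval ψ₀ B * (FreeGroup.lift ψ₀ u)⁻¹ * c2⁻¹ := by
                rw [eq_mul_inv_iff_mul_eq, ← h7]
                group
              rw [h10, this]
              group
            · simp only [lval_cons, dval_inl, lift_kill, h9, hB', h10]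
              group
            · rw [h9, h8]
        refine ⟨Function.update ψ₀ e ((FreeGroup.lift ψ₀ u)⁻¹ * c2 * FreeGroup.lift ψ₀ u *
              (lval ψ₀ B)⁻¹), ⟨h4.update e _, ?_⟩, ?_⟩
        · rw [hmain _ (h4.update e _)]
          exact ⟨update_update_one he h4 _, by simp⟩
        · rintro ψ ⟨hψ1, hψ2⟩
          rw [hmain ψ hψ1] at hψ2
          rw [← hψ2.2, ← hψ2.1]
          simp
    · simp only [List.map_cons, Sym.sh, List.map_map]
      have : List.map (Sym.sh ∘ Sym.kill e) L1 = List.map Sym.sh L1 := by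
        apply List.map_congr_left
        intro s _
        simp
      rw [this, hL1]
      exact ((List.perm_middle (a := some (.inl e :: B))).symm.cons _).trans
        (List.perm_middle (a := some (.inr e :: A))).symm

/-- attach a band along two different boundary components -/
lemma Reach.merge {Λ : Set E} {g : ℕ} {e : E} {A B : List (E ⊕ E)} {comps : List (List (E ⊕ E))}
    (h : Reach.{u, w} Λ g ((.inr e :: B) :: (.inl e :: A) :: comps)) (he : e ∉ Λ)
    (hA : .inl e ∉ A ∧ .inr e ∉ A) (hB : .inl e ∉ B ∧ .inr e ∉ B)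
    (hc : ∀ l ∈ comps, .inl e ∉ l ∧ .inr e ∉ l) :
    Reach.{u, w} (insert e Λ) (g + 1) ((.inl e :: (B ++ .inr e :: A)) :: comps) := by
  obtain ⟨L, h1, h2⟩ := h.exists_of_perm
    (sh₂ := some (.inr e :: B) :: some (.inl e :: A) :: (List.replicate g none ++ comps.map some))
    (List.perm_middle.trans ((List.perm_middle).cons _))
  rw [List.map_eq_cons_iff] at h1
  obtain ⟨s1, L0, rfl, hs1, hL0⟩ := h1
  rw [List.map_eq_cons_iff] at hL0
  obtain ⟨s2, L1, rfl, hs2, hL1⟩ := hL0
  cases s1 with
  | hd a b => simp [Sym.sh] at hs1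
  | pt m2 u2 =>
  cases s2 with
  | hd a b => simp [Sym.sh] at hs2
  | pt m1 u1 =>
    simp only [Sym.sh, Option.some.injEq] at hs1 hs2
    subst hs1
    subst hs2
    have hk : ∀ (K : Type w) [Group K] (ψ : E → K), (L1.map (Sym.kill e)).map (Sym.eval ψ) =
        L1.map (Sym.eval (Function.update ψ e 1)) := by
      intro K _ ψ
      refine Sym.map_eval_kill ψ e L1 fun l hl => ?_
      rw [hL1] at hl
      simp only [List.mem_append, List.mem_replicate, List.mem_map, Option.some.injEq] at hl
      obtain hl | ⟨l', hl', rfl⟩ := hl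
      · simp at hl
      · exact hc l' hl'
    refine Reach.of_perm (L := .hd (kill e u2 * lword B * (kill e u2)⁻¹)
      (kill e u1 * FreeGroup.of e * (kill e u2)⁻¹) ::
      .pt (.inl e :: (B ++ .inr e :: A)) (kill e u1) :: L1.map (Sym.kill e)) ?_ ?_
    · intro K _
      refine ⟨fun ψ hψ => ?_, fun v hv1 hv2 => ?_⟩
      · have h3 := (h2 K).1 _ hψ.update_one
        simp only [List.map_cons, List.prod_cons, hk, Sym.eval, Val.ev] at h3 ⊢
        refine Eq.trans ?_ h3
        simp only [lval_cons, lval_append, dval_inl, dval_inr, Function.update_self, map_mul, lift_kill,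
          FreeGroup.lift_apply_of, lval_update ψ e 1 hA.1 hA.2, lval_update ψ e 1 hB.1 hB.2, map_inv,
          lift_lword]
        group
      · simp only [List.map_cons, Sym.isHd] at hv1
        rw [List.map_eq_cons_iff] at hv1
        obtain ⟨v1, V1, rfl, hv1', hV1⟩ := hv1
        rw [List.map_eq_cons_iff] at hV1
        obtain ⟨v2, V2, rfl, hv2', hV2⟩ := hV1
        cases v1 with
        | pt c => simp [Val.isHd] at hv1'
        | hd a b =>
        cases v2 with
        | hd a b => simp [Val.isHd] at hv2'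
        | pt c =>
        have h3 := (h2 K).2 (.pt a :: .pt (b * a⁻¹ * b⁻¹ * c) :: V2) (by
          simp only [List.map_cons, Val.isHd, Sym.isHd, hV2, List.map_map]
          congr 2
          apply List.map_congr_left
          intro s _
          simp) (by
          simp only [List.map_cons, List.prod_cons, Val.ev] at hv2 ⊢
          rw [← hv2]; group)
        obtain ⟨ψ₀, ⟨h4, h5⟩, h6⟩ := h3
        simp only [List.map_cons, Sym.eval, List.cons.injEq, Val.pt.injEq] at h5
        obtain ⟨h7, h7', h8⟩ := h5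
        have he0 : ψ₀ e = 1 := h4 e he
        simp only [lval_cons, dval_inl, dval_inr, he0] at h7 h7'
        have hmain : ∀ ψ : E → K, Supp (insert e Λ) ψ → (List.map (Sym.eval ψ)
            (.hd (kill e u2 * lword B * (kill e u2)⁻¹) (kill e u1 * FreeGroup.of e * (kill e u2)⁻¹) ::
            .pt (.inl e :: (B ++ .inr e :: A)) (kill e u1) :: L1.map (Sym.kill e)) =
              .hd a b :: .pt c :: V2 ↔
            Function.update ψ e 1 = ψ₀ ∧ ψ e = (FreeGroup.lift ψ₀ u1)⁻¹ * b * FreeGroup.lift ψ₀ u2) := by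
          intro ψ hψ
          simp only [List.map_cons, Sym.eval, hk, List.cons.injEq, Val.pt.injEq, Val.hd.injEq]
          constructor
          · rintro ⟨⟨h9, h9'⟩, h10, h11⟩
            have h12 : Function.update ψ e 1 = ψ₀ := by
              refine h6 _ ⟨hψ.update_one, ?_⟩
              simp only [List.map_cons, Sym.eval, h11, List.cons.injEq, Val.pt.injEq, and_true]
              rw [← h9, ← h9', ← h10]
              simp only [lval_cons, lval_append, dval_inl, dval_inr, Function.update_self, map_mul, lift_kill,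
                FreeGroup.lift_apply_of, lval_update ψ e 1 hA.1 hA.2, lval_update ψ e 1 hB.1 hB.2, map_inv,
                lift_lword]
              constructor <;> group
            refine ⟨h12, ?_⟩
            rw [← h9']
            simp only [map_mul, map_inv, lift_kill, h12, FreeGroup.lift_apply_of]
            group
          · rintro ⟨h9, h10⟩
            have hA' : lval ψ A = lval ψ₀ A := by rw [← h9, lval_update ψ e 1 hA.1 hA.2]
            have hB' : lval ψ B = lval ψ₀ B := by rw [← h9, lval_update ψ e 1 hB.1 hB.2]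
            refine ⟨⟨?_, ?_⟩, ?_, ?_⟩
            · simp only [map_mul, map_inv, lift_kill, h9, lift_lword, hB']
              rw [← h7]
              group
            · simp only [map_mul, map_inv, lift_kill, h9, FreeGroup.lift_apply_of, h10]
              group
            · simp only [lval_cons, lval_append, dval_inl, dval_inr, lift_kill, h9, hA', hB']
              have : c = b * a * b⁻¹ * (FreeGroup.lift ψ₀ u1 * (1 * lval ψ₀ A) * (FreeGroup.lift ψ₀ u1)⁻¹) := by
                rw [h7']
                group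
              rw [this, h10, ← h7]
              group
            · rw [h9, h8]
        refine ⟨Function.update ψ₀ e ((FreeGroup.lift ψ₀ u1)⁻¹ * b * FreeGroup.lift ψ₀ u2),
          ⟨h4.update e _, ?_⟩, ?_⟩
        · rw [hmain _ (h4.update e _)]
          exact ⟨update_update_one he h4 _, by simp⟩
        · rintro ψ ⟨hψ1, hψ2⟩
          rw [hmain ψ hψ1] at hψ2
          rw [← hψ2.2, ← hψ2.1]
          simp
    · simp only [List.map_cons, Sym.sh, List.map_map]
      have : List.map (Sym.sh ∘ Sym.kill e) L1 = List.map Sym.sh L1 := by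
        apply List.map_congr_left
        intro s _
        simp
      rw [this, hL1, List.replicate_succ, List.cons_append]
      exact (List.perm_middle).symm.cons _

end Kill

/-- The disc. -/
lemma Reach.disc (l : List (E ⊕ E)) : Reach.{u, w} (∅ : Set E) 0 [l] := by
  refine ⟨[.pt l 1], ?_, by simp [Sym.sh]⟩
  intro K _
  have h0 : ∀ ψ : E → K, Supp (∅ : Set E) ψ → lval ψ l = 1 := by
    intro ψ hψ
    apply List.prod_eq_one
    intro x hx
    simp only [List.mem_map] at hx
    obtain ⟨d, -, rfl⟩ := hx
    cases d with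
    | inl e => exact hψ e (by simp)
    | inr e => simp [hψ e (by simp)]
  refine ⟨fun ψ hψ => ?_, fun s hs1 hs2 => ?_⟩
  · simp [Sym.eval, Val.ev, h0 ψ hψ]
  · simp only [List.map_cons, List.map_nil, Sym.isHd] at hs1
    rw [List.map_eq_singleton_iff] at hs1
    obtain ⟨v, rfl, hv⟩ := hs1
    cases v with
    | hd a b => simp [Val.isHd] at hv
    | pt c =>
      simp only [List.map_cons, List.map_nil, Val.ev, List.prod_singleton] at hs2
      subst hs2
      refine ⟨fun _ => 1, ⟨fun _ _ => rfl, ?_⟩, ?_⟩
      · simp [Sym.eval, h0 (fun _ => (1 : K)) (fun _ _ => rfl)]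
      · rintro ψ ⟨hψ, -⟩
        funext e
        exact hψ e (by simp)

end Groth.Agent.Pi1.H402.Words
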